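import Groth.Agent.H61.ObsR.Rel
import Groth.Agent.H63.Length

set_option linter.style.haveILetI false
set_option linter.unusedSectionVars false
set_option autoImplicit false

/-!
# A `k`-basis of the kernel of a semismall extension, and uniqueness of obstruction values
-/

namespace Groth.Agent.H61.ObsR

universe u

open ArtFun ArtFun.Art CotT Groth.Agent.H61.Hull

variable {k : Type u} [Field k] {B₀ : Type u} [CommRing B₀] [Algebra k B₀]
  {ι σ : Type u} {P : Algebra.Presentation k B₀ ι σ} {C' C : Art k k}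

theorem art_finite (A : Art k k) : Module.Finite k A := by
  letI : Algebra A k := (A.res : A →+* k).toAlgebra
  haveI : IsScalarTower k A k := IsScalarTower.of_algebraMap_eq fun c => (A.res.commutes c).symm
  have h := Groth.Agent.H63.length_restrict k k A A A.res_surjective
  have h1 : Module.length k k = 1 := Module.length_eq_one k k
  rw [h1, one_mul] at h
  have h2 : Module.length A A ≠ ⊤ := by
    rw [Module.length_ne_top_iff]
    exact isFiniteLength_iff_isNoetherian_isArtinian.mpr ⟨inferInstance, inferInstance⟩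
  have h3 : IsFiniteLength k A := by
    rw [← Module.length_ne_top_iff, ← h]
    exact h2
  haveI : IsNoetherian k A := (isFiniteLength_iff_isNoetherian_isArtinian.mp h3).1
  infer_instance

lemma res_algebraMap (A : Art k k) (c : k) : A.res (algebraMap k A c) = c := by
  rw [AlgHom.commutes]
  rfl

lemma sub_algebraMap_res_mem (A : Art k k) (a : A) :
    a - algebraMap k A (A.res a) ∈ IsLocalRing.maximalIdeal A := by
  rw [mem_maximalIdeal_iff, map_sub, res_algebraMap, sub_self]

/-- a `k`-basis of the kernel of `p`. -/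
structure KB (p : C' ⟶ C) : Type u where
  /-- the dimension -/
  r : ℕ
  /-- the basis -/
  b : Module.Basis (Fin r) k ↥(RingHom.ker p.toAlgHom)

instance (p : C' ⟶ C) : Nonempty (KB p) := by
  haveI := art_finite C'
  haveI : IsNoetherian k C' := inferInstance
  haveI : Module.Finite k ↥(RingHom.ker p.toAlgHom) :=
    Module.Finite.of_injective ((RingHom.ker p.toAlgHom).subtype.restrictScalars k)
      Subtype.val_injective
  exact ⟨⟨_, Module.finBasis k ↥(RingHom.ker p.toAlgHom)⟩⟩

namespace KB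

variable {p : C' ⟶ C} (𝔟 : KB p)

/-- the basis vectors as elements of `C'`. -/
noncomputable def t (i : Fin 𝔟.r) : C' := (𝔟.b i : C')

lemma t_mem (i : Fin 𝔟.r) : 𝔟.t i ∈ RingHom.ker p.toAlgHom := (𝔟.b i).2

lemma exists_repr (j : C') (hj : j ∈ RingHom.ker p.toAlgHom) :
    ∃ c : Fin 𝔟.r → k, j = ∑ i, algebraMap k C' (c i) * 𝔟.t i := by
  refine ⟨fun i => 𝔟.b.repr ⟨j, hj⟩ i, ?_⟩
  have h := 𝔟.b.sum_repr ⟨j, hj⟩
  have h2 : ((∑ i, (𝔟.b.repr ⟨j, hj⟩) i • 𝔟.b i : ↥(RingHom.ker p.toAlgHom)) : C') = j :=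
    congrArg (Subtype.val : ↥(RingHom.ker p.toAlgHom) → C') h
  rw [AddSubmonoidClass.coe_finsetSum] at h2
  conv_lhs => rw [← h2]
  refine Finset.sum_congr rfl fun i _ => ?_
  rw [← Algebra.smul_def]
  rfl

include 𝔟 in
lemma mem_maximalIdeal_of_sum_eq_zero (hp : IsSemismallExt p) (c : Fin 𝔟.r → C')
    (h : ∑ i, c i * 𝔟.t i = 0) : ∀ i, c i ∈ IsLocalRing.maximalIdeal C' := by
  have hmul : ∀ (a : C') (i : Fin 𝔟.r), a ∈ IsLocalRing.maximalIdeal C' → a * 𝔟.t i = 0 := by
    intro a i ha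
    have h1 := Ideal.mul_mem_mul ha (𝔟.t_mem i)
    rw [hp.2] at h1
    exact h1
  have h1 : ∑ i, C'.res (c i) • 𝔟.b i = 0 := by
    apply Subtype.ext
    rw [AddSubmonoidClass.coe_finsetSum]
    change ∑ i, ((C'.res (c i) • 𝔟.b i : ↥(RingHom.ker p.toAlgHom)) : C') = 0
    rw [← h]
    refine Finset.sum_congr rfl fun i _ => ?_
    change C'.res (c i) • 𝔟.t i = c i * 𝔟.t i
    rw [Algebra.smul_def]
    have h2 := hmul _ i (sub_algebraMap_res_mem C' (c i))
    rw [sub_mul, sub_eq_zero] at h2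
    exact h2.symm
  intro i
  rw [mem_maximalIdeal_iff]
  have h2 := Fintype.linearIndependent_iff.mp 𝔟.b.linearIndependent (fun i => C'.res (c i)) h1
  exact h2 i

lemma exists_of_mem_JR (G : MvPolynomial ι C') (hG : G ∈ MD.JR (ι := ι) p) :
    ∃ H : Fin 𝔟.r → MvPolynomial ι C', G = ∑ i, MvPolynomial.C (𝔟.t i) * H i := by
  have h1 : RingHom.ker p.toAlgHom = Ideal.span (Set.range 𝔟.t) := by
    apply le_antisymm
    · intro j hj
      obtain ⟨c, rfl⟩ := 𝔟.exists_repr j hj
      exact Ideal.sum_mem _ fun i _ => Ideal.mul_mem_left _ _ (Ideal.subset_span ⟨i, rfl⟩)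
    · rw [Ideal.span_le]
      rintro _ ⟨i, rfl⟩
      exact 𝔟.t_mem i
  unfold MD.JR at hG
  rw [h1, Ideal.map_span, ← Set.range_comp, Ideal.mem_span_range_iff_exists_fun] at hG
  obtain ⟨H, hH⟩ := hG
  refine ⟨H, ?_⟩
  rw [← hH]
  refine Finset.sum_congr rfl fun i _ => ?_
  rw [mul_comm]
  rfl

end KB

end Groth.Agent.H61.ObsR
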