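import Groth.Agent.H61.ObsR.Basis

set_option linter.style.haveILetI false
set_option linter.unusedSectionVars false
set_option autoImplicit false

/-!
# Uniqueness of obstruction values: `J R' ∩ m' I'` maps to zero in `J ⊗ B₀`
-/

namespace Groth.Agent.H61.ObsR

universe u

open ArtFun ArtFun.Art CotT Groth.Agent.H61.Hull
open scoped Pointwise

variable {k : Type u} [Field k] {B₀ : Type u} [CommRing B₀] [Algebra k B₀]
  {ι σ : Type u} {P : Algebra.Presentation k B₀ ι σ} {C' C : Art k k}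

namespace MD

variable (M : MD P C) {p : C' ⟶ C} (𝔟 : KB p)

/-- products `m' R' · I'` as explicit finite sums. -/
lemma exists_sum_of_mem_KI (x : MvPolynomial ι C') (hx : x ∈ M.KI p) :
    ∃ (n : ℕ) (a : Fin n → C') (y : Fin n → MvPolynomial ι C'),
      (∀ j, a j ∈ IsLocalRing.maximalIdeal C') ∧ (∀ j, y j ∈ M.I' p) ∧
        x = ∑ j, MvPolynomial.C (a j) * y j := by
  unfold KI at hx
  have h1 : (IsLocalRing.maximalIdeal C').map (MvPolynomial.C : C' →+* MvPolynomial ι C') * M.I' p =
      Ideal.span (((MvPolynomial.C : C' →+* MvPolynomial ι C') ''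
        (IsLocalRing.maximalIdeal C' : Set C')) * ((M.I' p : Ideal (MvPolynomial ι C')) :
          Set (MvPolynomial ι C'))) := by
    rw [← Ideal.span_mul_span', Ideal.span_eq]
    rfl
  rw [h1] at hx
  change x ∈ Submodule.span _ _ at hx
  rw [Submodule.mem_span_set'] at hx
  obtain ⟨n, f, g, hsum⟩ := hx
  have hg : ∀ i, ∃ (a : C') (y : MvPolynomial ι C'), a ∈ IsLocalRing.maximalIdeal C' ∧
      y ∈ M.I' p ∧ ((g i : _) : MvPolynomial ι C') = MvPolynomial.C a * y := by
    intro i
    obtain ⟨m, ⟨a, ha, rfl⟩, y, hy, hmy⟩ := Set.mem_mul.mp (g i).2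
    exact ⟨a, y, ha, hy, hmy.symm⟩
  choose a y ha hy hgy using hg
  refine ⟨n, a, fun i => f i * y i, ha, fun i => Ideal.mul_mem_left _ _ (hy i), ?_⟩
  rw [← hsum]
  refine Finset.sum_congr rfl fun i _ => ?_
  rw [hgy i, smul_eq_mul]
  ring

lemma C_mul_eq_zero_of_mem (hp : IsSemismallExt p) {a : C'}
    (ha : a ∈ IsLocalRing.maximalIdeal C') {W : MvPolynomial ι C'} (hW : W ∈ JR (ι := ι) p) :
    MvPolynomial.C a * W = 0 := by
  unfold JR at hW
  change W ∈ Submodule.span _ _ at hW
  induction hW using Submodule.span_induction with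
  | mem x hx =>
    obtain ⟨j, hj, rfl⟩ := hx
    have h1 := Ideal.mul_mem_mul ha hj
    rw [hp.2] at h1
    have h2 : a * j = 0 := h1
    change MvPolynomial.C a * MvPolynomial.C j = 0
    rw [← map_mul, h2, map_zero]
  | zero => exact mul_zero _
  | add x y _ _ hx hy => rw [mul_add, hx, hy, add_zero]
  | smul r x _ hx => rw [smul_eq_mul, mul_left_comm, hx, mul_zero]

/-- (β): if `∑ tᵢ Gᵢ ∈ m' I'` then every `Gᵢ` maps to zero in `B₀`. -/
theorem tau_eq_zero (hp : IsSemismallExt p) (G : Fin 𝔟.r → MvPolynomial ι C')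
    (hG : ∑ i, MvPolynomial.C (𝔟.t i) * G i ∈ M.KI p) (i : Fin 𝔟.r) :
    algebraMap P.toExtension.Ring B₀ (red P C' (G i)) = 0 := by
  haveI := M.flat_I
  obtain ⟨n, a, y, ha, hy, hsum⟩ := M.exists_sum_of_mem_KI _ hG
  -- the images in the kernel of `C[x] → D.E`
  let yb : Fin n → ↥(M.I.restrictScalars C) := fun j => ⟨pr ι p (y j), (M.mem_I' p).mp (hy j)⟩
  have hrel : ∑ j, p.toAlgHom (a j) • yb j = 0 := by
    apply Subtype.ext
    rw [Submodule.coe_sum]
    change ∑ j, p.toAlgHom (a j) • pr ι p (y j) = 0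
    have h1 : pr ι p (∑ i, MvPolynomial.C (𝔟.t i) * G i) = 0 := by
      rw [map_sum]
      refine Finset.sum_eq_zero fun i _ => ?_
      rw [map_mul, pr_C, (RingHom.mem_ker).mp (𝔟.t_mem i), map_zero, zero_mul]
    rw [hsum, map_sum] at h1
    rw [← h1]
    refine Finset.sum_congr rfl fun j _ => ?_
    rw [map_mul, pr_C, MvPolynomial.smul_eq_C_mul]
  obtain ⟨m, c, z, hyz', hac'⟩ :=
    Module.Flat.isTrivialRelation_of_sum_smul_eq_zero (R := C)
      (M := ↥(M.I.restrictScalars C)) hrel
  have hyz : ∀ j, yb j = ∑ l, c j l • z l := hyz'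
  have hac : ∀ l, ∑ j, p.toAlgHom (a j) * c j l = 0 := hac'
  choose c' hc' using fun j l => hp.1 (c j l)
  choose z' hz' using fun l => pr_surjective (ι := ι) p hp.1 ((z l : MvPolynomial ι C))
  have hz'I : ∀ l, z' l ∈ M.I' p := by
    intro l
    rw [mem_I', hz' l]
    exact (z l).2
  -- `y j - ∑ c' z'` lies in `J R'`
  have hw : ∀ j, y j - ∑ l, MvPolynomial.C (c' j l) * z' l ∈ JR (ι := ι) p := by
    intro j
    rw [JR_eq_ker_pr, RingHom.mem_ker, map_sub, map_sum, sub_eq_zero]
    have h2 := congrArg Subtype.val (hyz j)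
    rw [Submodule.coe_sum] at h2
    change pr ι p (y j) = ∑ l, ((c j l • z l : ↥(M.I.restrictScalars C)) : MvPolynomial ι C) at h2
    rw [h2]
    refine Finset.sum_congr rfl fun l _ => ?_
    rw [map_mul, pr_C, hz' l, Submodule.coe_smul, MvPolynomial.smul_eq_C_mul]
    congr 2
    exact (hc' j l).symm
  have hd : ∀ l, ∑ j, a j * c' j l ∈ RingHom.ker p.toAlgHom := by
    intro l
    rw [RingHom.mem_ker, map_sum, ← hac l]
    refine Finset.sum_congr rfl fun j _ => ?_
    rw [map_mul]
    congr 1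
    exact hc' j l
  choose δ hδ using fun l => 𝔟.exists_repr _ (hd l)
  -- the key identity
  have hkey : ∑ i, MvPolynomial.C (𝔟.t i) * G i =
      ∑ i, MvPolynomial.C (𝔟.t i) * ∑ l, MvPolynomial.C (algebraMap k C' (δ l i)) * z' l := by
    rw [hsum]
    have e1 : ∀ j, MvPolynomial.C (a j) * y j =
        ∑ l, MvPolynomial.C (a j * c' j l) * z' l := by
      intro j
      have h1 : y j = ∑ l, MvPolynomial.C (c' j l) * z' l +
          (y j - ∑ l, MvPolynomial.C (c' j l) * z' l) := by ring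
      rw [h1, mul_add, C_mul_eq_zero_of_mem hp (ha j) (hw j), add_zero, Finset.mul_sum]
      refine Finset.sum_congr rfl fun l _ => ?_
      rw [map_mul, mul_assoc]
    rw [Finset.sum_congr rfl fun j _ => e1 j, Finset.sum_comm]
    have e2 : ∀ l, ∑ j, MvPolynomial.C (a j * c' j l) * z' l =
        ∑ i, MvPolynomial.C (𝔟.t i) * (MvPolynomial.C (algebraMap k C' (δ l i)) * z' l) := by
      intro l
      rw [← Finset.sum_mul, ← map_sum, hδ l, map_sum, Finset.sum_mul]
      refine Finset.sum_congr rfl fun i _ => ?_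
      rw [map_mul]
      ring
    rw [Finset.sum_congr rfl fun l _ => e2 l, Finset.sum_comm]
    refine Finset.sum_congr rfl fun i _ => ?_
    rw [Finset.mul_sum]
  let W : Fin 𝔟.r → MvPolynomial ι C' := fun i =>
    G i - ∑ l, MvPolynomial.C (algebraMap k C' (δ l i)) * z' l
  have h0 : ∑ i, MvPolynomial.C (𝔟.t i) * W i = 0 := by
    change ∑ i, MvPolynomial.C (𝔟.t i) * (G i - _) = 0
    simp only [mul_sub, Finset.sum_sub_distrib]
    rw [hkey, sub_self]
  have hW : ∀ i, red P C' (W i) = 0 := by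
    intro i
    have key : (MvPolynomial.map (C'.res : C' →+* k) (W i) : MvPolynomial ι k) = 0 := by
      apply MvPolynomial.ext
      intro mm
      rw [MvPolynomial.coeff_map, MvPolynomial.coeff_zero]
      have h1 : ∑ i, MvPolynomial.coeff mm (W i) * 𝔟.t i = 0 := by
        have h2 := congrArg (MvPolynomial.coeff mm) h0
        rw [MvPolynomial.coeff_sum, MvPolynomial.coeff_zero] at h2
        rw [← h2]
        refine Finset.sum_congr rfl fun i _ => ?_
        rw [MvPolynomial.coeff_C_mul, mul_comm]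
      exact (mem_maximalIdeal_iff C' _).mp
        (𝔟.mem_maximalIdeal_of_sum_eq_zero hp (fun i => MvPolynomial.coeff mm (W i)) h1 i)
    exact key
  have h2 : algebraMap P.toExtension.Ring B₀ (red P C' (W i)) = 0 := by
    rw [hW i, map_zero]
  change algebraMap P.toExtension.Ring B₀ (red P C' (G i - _)) = 0 at h2
  rw [map_sub, map_sub, sub_eq_zero] at h2
  rw [h2, map_sum, map_sum]
  refine Finset.sum_eq_zero fun l _ => ?_
  have h3 : algebraMap P.toExtension.Ring B₀ (red P C' (z' l)) = 0 := M.red_mem_ker' p (hz'I l)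
  rw [map_mul, map_mul, h3, mul_zero]

end MD

end Groth.Agent.H61.ObsR
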