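import Mathlib
import Groth.Prelude.Def_CotT

set_option linter.style.haveILetI false
set_option linter.unusedSectionVars false
set_option autoImplicit false

/-!
# Classes in `T²` of cocycles on the relation module
-/

namespace Groth.Agent.H61.ObsR

universe u v w t

open TensorProduct CotT

variable {A : Type u} {B : Type v} {ι : Type w} {σ : Type t}
variable [CommRing A] [CommRing B] [Algebra A B]
variable (P : Algebra.Presentation A B ι σ)

/-- cocycles: `R`-linear maps on the relation module with values in `B` killing the trivial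
relations. -/
def Z2 : Submodule A (relKer P →ₗ[P.toExtension.Ring] B) where
  carrier := {o | ∀ q : relKer P, (q : relMod P) ∈ trivRel P → o q = 0}
  add_mem' := by
    intro o o' ho ho' q hq
    rw [LinearMap.add_apply, ho q hq, ho' q hq, add_zero]
  zero_mem' := fun q _ => rfl
  smul_mem' := by
    intro c o ho q hq
    rw [LinearMap.smul_apply, ho q hq, smul_zero]

variable {P}

/-- the map on `B ⊗ Q` of a cocycle. -/
noncomputable def toL2aux (o : relKer P →ₗ[P.toExtension.Ring] B) :
    B ⊗[P.toExtension.Ring] relKer P →ₗ[B] B := LinearMap.liftBaseChange B o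

lemma toL2aux_tmul (o : relKer P →ₗ[P.toExtension.Ring] B) (b : B) (q : relKer P) :
    toL2aux o (b ⊗ₜ q) = b * o q := by
  change LinearMap.liftBaseChange B o (b ⊗ₜ q) = _
  rw [LinearMap.liftBaseChange_tmul, smul_eq_mul]

lemma toL2aux_le (o : Z2 P) :
    LinearMap.range ((trivRelKer P).subtype.baseChange B) ≤ LinearMap.ker (toL2aux o.1) := by
  rw [LinearMap.range_le_ker_iff]
  refine TensorProduct.AlgebraTensorModule.ext fun b q' => ?_
  simp only [LinearMap.coe_comp, Function.comp_apply, LinearMap.baseChange_tmul,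
    Submodule.coe_subtype, LinearMap.zero_apply]
  rw [toL2aux_tmul, o.2 _ q'.2, mul_zero]

/-- the map on `L₂` of a cocycle. -/
noncomputable def toL2 (o : Z2 P) : L2 P →ₗ[B] B :=
  Submodule.liftQ _ (toL2aux o.1) (toL2aux_le o)

lemma toL2_mk (o : Z2 P) (b : B) (q : relKer P) :
    toL2 o (Submodule.Quotient.mk (b ⊗ₜ[P.toExtension.Ring] q)) = b * o.1 q := by
  change Submodule.liftQ _ (toL2aux o.1) (toL2aux_le o) (Submodule.Quotient.mk _) = _
  rw [Submodule.liftQ_apply, toL2aux_tmul]

lemma L2_ext {f g : L2 P →ₗ[B] B}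
    (h : ∀ (b : B) (q : relKer P), f (Submodule.Quotient.mk (b ⊗ₜ[P.toExtension.Ring] q)) =
      g (Submodule.Quotient.mk (b ⊗ₜ[P.toExtension.Ring] q))) : f = g := by
  refine Submodule.linearMap_qext _ ?_
  refine TensorProduct.AlgebraTensorModule.ext fun b q => ?_
  exact h b q

/-- `toL2` as an `A`-linear map. -/
noncomputable def toL2L : Z2 P →ₗ[A] (L2 P →ₗ[B] B) where
  toFun := toL2
  map_add' o o' := by
    apply L2_ext
    intro b q
    rw [LinearMap.add_apply, toL2_mk, toL2_mk, toL2_mk]
    change b * (o.1 + o'.1) q = _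
    rw [LinearMap.add_apply, mul_add]
  map_smul' c o := by
    apply L2_ext
    intro b q
    rw [RingHom.id_apply, LinearMap.smul_apply, toL2_mk, toL2_mk]
    change b * (c • o.1) q = _
    rw [LinearMap.smul_apply, mul_smul_comm]

/-- the class in `T²` of a cocycle. -/
noncomputable def cl : Z2 P →ₗ[A] T2 P B :=
  ((LinearMap.range (d2Star P B)).mkQ.restrictScalars A) ∘ₗ toL2L

lemma cl_apply (o : Z2 P) : cl o = Submodule.Quotient.mk (toL2 o) := rfl

/-- the coboundary of a family of coefficients. -/
lemma cl_eq_zero_iff (o : Z2 P) :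
    cl o = 0 ↔ ∃ η : σ → B, ∀ q : relKer P,
      o.1 q = (q : relMod P).sum fun s r => algebraMap P.toExtension.Ring B r * η s := by
  classical
  rw [cl_apply, Submodule.Quotient.mk_eq_zero]
  have h1 : ∀ q : relKer P, ((1 : B) ⊗ₜ[P.toExtension.Ring] ((q : relKer P) : relMod P) : L1 P) =
      ((q : relMod P).sum fun s r => algebraMap P.toExtension.Ring B r •
        ((1 : B) ⊗ₜ[P.toExtension.Ring] (Finsupp.single s 1 : relMod P) : L1 P)) := by
    intro q
    conv_lhs => rw [← Finsupp.sum_single (q : relMod P)]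
    rw [Finsupp.sum, Finsupp.sum, TensorProduct.tmul_sum]
    refine Finset.sum_congr rfl fun s _ => ?_
    have h2 : (Finsupp.single s ((q : relMod P) s) : relMod P) =
        ((q : relMod P) s) • (Finsupp.single s 1 : relMod P) := by
      rw [Finsupp.smul_single, smul_eq_mul, mul_one]
    rw [h2, TensorProduct.tmul_smul, TensorProduct.smul_tmul', TensorProduct.smul_tmul',
      Algebra.smul_def, mul_one, smul_eq_mul, mul_one]
  constructor
  · rintro ⟨H, hH⟩
    rw [d2Star_apply] at hH
    refine ⟨fun s => H ((1 : B) ⊗ₜ[P.toExtension.Ring] (Finsupp.single s 1 : relMod P)), fun q => ?_⟩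
    have h3 : o.1 q = toL2 o (Submodule.Quotient.mk ((1 : B) ⊗ₜ[P.toExtension.Ring] q)) := by
      rw [toL2_mk, one_mul]
    rw [h3, ← hH, LinearMap.comp_apply, d2_mk_tmul, h1 q, Finsupp.sum, map_sum, Finsupp.sum]
    refine Finset.sum_congr rfl fun s _ => ?_
    rw [map_smul, smul_eq_mul]
  · rintro ⟨η, hη⟩
    let H : L1 P →ₗ[B] B := (L1basis P).constr B η
    have hH : ∀ s, H ((1 : B) ⊗ₜ[P.toExtension.Ring] (Finsupp.single s 1 : relMod P)) = η s := by
      intro s
      rw [← L1basis_apply]
      exact (L1basis P).constr_basis B η s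
    refine ⟨H, ?_⟩
    rw [d2Star_apply]
    apply L2_ext
    intro b q
    rw [LinearMap.comp_apply, d2_mk_tmul, toL2_mk, hη q]
    have h4 : (b ⊗ₜ[P.toExtension.Ring] ((q : relKer P) : relMod P) : L1 P) =
        b • ((1 : B) ⊗ₜ[P.toExtension.Ring] ((q : relKer P) : relMod P) : L1 P) := by
      rw [TensorProduct.smul_tmul', smul_eq_mul, mul_one]
    rw [h4, map_smul, h1 q, Finsupp.sum, map_sum, Finsupp.sum, smul_eq_mul]
    congr 1
    refine Finset.sum_congr rfl fun s _ => ?_
    rw [map_smul, smul_eq_mul, hH]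

end Groth.Agent.H61.ObsR
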