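import Groth.Agent.H61.ObsR.Beta
import Groth.Agent.H61.ObsR.T2Class

set_option linter.style.haveILetI false
set_option linter.unusedSectionVars false
set_option autoImplicit false

/-!
# The obstruction cocycles of a marked deformation along a semismall extension
-/

namespace Groth.Agent.H61.ObsR

universe u

open ArtFun ArtFun.Art CotT Groth.Agent.H61.Hull

variable {k : Type u} [Field k] {B₀ : Type u} [CommRing B₀] [Algebra k B₀]
  {ι σ : Type u} {P : Algebra.Presentation k B₀ ι σ} {C' C : Art k k}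

section MapRed

variable (P) (C')

/-- reduction of coefficient vectors. -/
noncomputable def mapRed : (σ →₀ MvPolynomial ι C') →+ relMod P :=
  Finsupp.mapRange.addMonoidHom (red P C').toAddMonoidHom

variable {C'}

lemma mapRed_apply (x : σ →₀ MvPolynomial ι C') (s : σ) : mapRed P C' x s = red P C' (x s) := rfl

lemma mapRed_single (s : σ) (r : MvPolynomial ι C') :
    mapRed P C' (Finsupp.single s r) = Finsupp.single s (red P C' r) := by
  unfold mapRed
  rw [Finsupp.mapRange.addMonoidHom_apply, Finsupp.mapRange_single]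
  rfl

lemma mapRed_smul (r : MvPolynomial ι C') (x : σ →₀ MvPolynomial ι C') :
    mapRed P C' (r • x) = red P C' r • mapRed P C' x := by
  ext s
  rw [mapRed_apply, Finsupp.smul_apply, Finsupp.smul_apply, mapRed_apply, smul_eq_mul, smul_eq_mul,
    map_mul]

lemma mapRed_surjective : Function.Surjective (mapRed P C') := by
  intro q
  induction q using Finsupp.induction_linear with
  | zero => exact ⟨0, map_zero _⟩
  | add x y hx hy =>
    obtain ⟨x', rfl⟩ := hx
    obtain ⟨y', rfl⟩ := hy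
    exact ⟨x' + y', map_add _ _ _⟩
  | single s r =>
    obtain ⟨r', rfl⟩ := red_surjective P C' r
    exact ⟨Finsupp.single s r', mapRed_single P s r'⟩

end MapRed

namespace MD

variable (M : MD P C) (p : C' ⟶ C)

/-- a choice of lifts of the relations of `P` to the kernel of `C'[x] → D.E`. -/
structure LiftFn : Type u where
  /-- the lifts -/
  L : σ → MvPolynomial ι C'
  mem : ∀ s, L s ∈ M.I' p
  red_eq : ∀ s, red P C' (L s) = P.relation s

lemma nonempty_liftFn (hp : Function.Surjective p) : Nonempty (M.LiftFn p) := by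
  choose L hL hred using fun s => M.exists_mem_red_eq' p hp (P.relation s) (P.relation_mem_ker s)
  exact ⟨⟨L, hL, hred⟩⟩

variable {M p}

/-- the lifted relation map. -/
noncomputable def JJ (L : σ → MvPolynomial ι C') :
    (σ →₀ MvPolynomial ι C') →ₗ[MvPolynomial ι C'] MvPolynomial ι C' :=
  Finsupp.linearCombination (MvPolynomial ι C') L

lemma JJ_single (L : σ → MvPolynomial ι C') (s : σ) (r : MvPolynomial ι C') :
    JJ L (Finsupp.single s r) = r * L s := by
  unfold JJ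
  rw [Finsupp.linearCombination_single, smul_eq_mul]

lemma JJ_mem (𝔏 : M.LiftFn p) (x : σ →₀ MvPolynomial ι C') : JJ 𝔏.L x ∈ M.I' p := by
  induction x using Finsupp.induction_linear with
  | zero => rw [map_zero]; exact Ideal.zero_mem _
  | add x y hx hy => rw [map_add]; exact Ideal.add_mem _ hx hy
  | single s r => rw [JJ_single]; exact Ideal.mul_mem_left _ _ (𝔏.mem s)

lemma red_JJ (𝔏 : M.LiftFn p) (x : σ →₀ MvPolynomial ι C') :
    red P C' (JJ 𝔏.L x) = jmap P (mapRed P C' x) := by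
  induction x using Finsupp.induction_linear with
  | zero => rw [map_zero, map_zero, map_zero, map_zero]
  | add x y hx hy => rw [map_add, map_add, map_add, map_add, hx, hy]
  | single s r =>
    rw [mapRed_single, jmap_single, JJ_single, map_mul, 𝔏.red_eq]

lemma JJ_mem_KI_of_forall (𝔏 : M.LiftFn p) (x : σ →₀ MvPolynomial ι C')
    (h : ∀ s, red P C' (x s) = 0) : JJ 𝔏.L x ∈ M.KI p := by
  unfold JJ KI
  rw [Finsupp.linearCombination_apply, Finsupp.sum]
  refine Ideal.sum_mem _ fun s _ => ?_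
  rw [smul_eq_mul]
  refine Ideal.mul_mem_mul ?_ (𝔏.mem s)
  rw [← ker_red P C']
  exact h s

lemma JJ_mem_KI_of_mapRed_eq_zero (𝔏 : M.LiftFn p) (x : σ →₀ MvPolynomial ι C')
    (h : mapRed P C' x = 0) : JJ 𝔏.L x ∈ M.KI p :=
  JJ_mem_KI_of_forall 𝔏 x fun s => by
    rw [← mapRed_apply, h]
    rfl

/-- `β` is a value of the obstruction at the relation `q`. -/
def IsObs (𝔏 : M.LiftFn p) (𝔟 : KB p) (q : relMod P) (β : Fin 𝔟.r → B₀) : Prop :=
  ∃ (x : σ →₀ MvPolynomial ι C') (G : Fin 𝔟.r → MvPolynomial ι C'),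
    mapRed P C' x = q ∧ JJ 𝔏.L x - ∑ i, MvPolynomial.C (𝔟.t i) * G i ∈ M.KI p ∧
      ∀ i, algebraMap P.toExtension.Ring B₀ (red P C' (G i)) = β i

variable {𝔏 : M.LiftFn p} {𝔟 : KB p}

lemma IsObs.add {q q' : relMod P} {β β' : Fin 𝔟.r → B₀}
    (h : IsObs 𝔏 𝔟 q β) (h' : IsObs 𝔏 𝔟 q' β') : IsObs 𝔏 𝔟 (q + q') (β + β') := by
  obtain ⟨x, G, h1, h2, h3⟩ := h
  obtain ⟨x', G', h1', h2', h3'⟩ := h'
  refine ⟨x + x', G + G', by rw [map_add, h1, h1'], ?_, fun i => by
    rw [Pi.add_apply, Pi.add_apply, map_add, map_add, h3, h3']⟩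
  have : JJ 𝔏.L (x + x') - ∑ i, MvPolynomial.C (𝔟.t i) * (G + G') i =
      (JJ 𝔏.L x - ∑ i, MvPolynomial.C (𝔟.t i) * G i) +
        (JJ 𝔏.L x' - ∑ i, MvPolynomial.C (𝔟.t i) * G' i) := by
    simp only [map_add, Pi.add_apply, mul_add, Finset.sum_add_distrib]
    ring
  rw [this]
  exact Ideal.add_mem _ h2 h2'

lemma IsObs.smul {q : relMod P} {β : Fin 𝔟.r → B₀} (h : IsObs 𝔏 𝔟 q β)
    (r : MvPolynomial ι C') :
    IsObs 𝔏 𝔟 (red P C' r • q)
      (fun i => algebraMap P.toExtension.Ring B₀ (red P C' r) * β i) := by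
  obtain ⟨x, G, h1, h2, h3⟩ := h
  refine ⟨r • x, fun i => r * G i, by rw [mapRed_smul, h1], ?_, fun i => by
    rw [map_mul, map_mul, h3]⟩
  have : JJ 𝔏.L (r • x) - ∑ i, MvPolynomial.C (𝔟.t i) * (r * G i) =
      r * (JJ 𝔏.L x - ∑ i, MvPolynomial.C (𝔟.t i) * G i) := by
    rw [map_smul, smul_eq_mul, mul_sub, Finset.mul_sum]
    congr 1
    refine Finset.sum_congr rfl fun i _ => ?_
    ring
  rw [this]
  exact Ideal.mul_mem_left _ _ h2

variable (𝔏 𝔟)

lemma isObs_zero : IsObs 𝔏 𝔟 0 0 :=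
  ⟨0, 0, map_zero _, by
    simp only [map_zero, Pi.zero_apply, mul_zero, Finset.sum_const_zero, sub_zero]
    exact Ideal.zero_mem _, fun i => by rw [Pi.zero_apply, map_zero, map_zero]; rfl⟩

/-- existence of obstruction values on relations. -/
lemma isObs_exists (hp : IsSemismallExt p) (q : relMod P) (hq : q ∈ relKer P) :
    ∃ β, IsObs 𝔏 𝔟 q β := by
  obtain ⟨x, rfl⟩ := mapRed_surjective P (C' := C') q
  have h1 : red P C' (JJ 𝔏.L x) = 0 := by
    rw [red_JJ]
    exact hq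
  have h2 := M.mem_of_red_eq_zero p hp.1 _ (JJ_mem 𝔏 x) h1
  rw [Submodule.mem_sup] at h2
  obtain ⟨κ, hκ, z, hz, hsum⟩ := h2
  obtain ⟨G, rfl⟩ := 𝔟.exists_of_mem_JR z hz
  refine ⟨_, x, G, rfl, ?_, fun i => rfl⟩
  have : JJ 𝔏.L x - ∑ i, MvPolynomial.C (𝔟.t i) * G i = κ := by
    rw [← hsum]; ring
  rw [this]
  exact hκ

/-- uniqueness of obstruction values. -/
lemma isObs_unique (hp : IsSemismallExt p) {q : relMod P} {β β' : Fin 𝔟.r → B₀}
    (h : IsObs 𝔏 𝔟 q β) (h' : IsObs 𝔏 𝔟 q β') : β = β' := by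
  obtain ⟨x, G, h1, h2, h3⟩ := h
  obtain ⟨x', G', h1', h2', h3'⟩ := h'
  have h4 : JJ 𝔏.L (x - x') ∈ M.KI p := by
    apply JJ_mem_KI_of_mapRed_eq_zero
    rw [map_sub, h1, h1', sub_self]
  have h5 : ∑ i, MvPolynomial.C (𝔟.t i) * (G i - G' i) ∈ M.KI p := by
    have : ∑ i, MvPolynomial.C (𝔟.t i) * (G i - G' i) =
        JJ 𝔏.L (x - x') - (JJ 𝔏.L x - ∑ i, MvPolynomial.C (𝔟.t i) * G i) +
          (JJ 𝔏.L x' - ∑ i, MvPolynomial.C (𝔟.t i) * G' i) := by
      simp only [map_sub, mul_sub, Finset.sum_sub_distrib]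
      ring
    rw [this]
    exact Ideal.add_mem _ (Ideal.sub_mem _ h4 h2) h2'
  funext i
  have h6 := M.tau_eq_zero 𝔟 hp (fun i => G i - G' i) h5 i
  rw [map_sub, map_sub, sub_eq_zero] at h6
  rw [← h3, ← h3', h6]

/-- trivial relations have obstruction zero. -/
lemma isObs_trivRel (q : relMod P) (hq : q ∈ trivRel P) : IsObs 𝔏 𝔟 q 0 := by
  unfold trivRel at hq
  induction hq using Submodule.span_induction with
  | mem y hy =>
    obtain ⟨a, b, rfl⟩ := hy
    obtain ⟨a', rfl⟩ := mapRed_surjective P (C' := C') a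
    obtain ⟨b', rfl⟩ := mapRed_surjective P (C' := C') b
    refine ⟨JJ 𝔏.L a' • b' - JJ 𝔏.L b' • a', 0, ?_, ?_, fun i => by
      rw [Pi.zero_apply, map_zero, map_zero]; rfl⟩
    · rw [map_sub, mapRed_smul, mapRed_smul, red_JJ, red_JJ]
    · simp only [Pi.zero_apply, mul_zero, Finset.sum_const_zero, sub_zero]
      rw [map_sub, map_smul, map_smul, smul_eq_mul, smul_eq_mul, mul_comm, sub_self]
      exact Ideal.zero_mem _
  | zero => exact isObs_zero 𝔏 𝔟
  | add y z _ _ hy hz =>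
    have := hy.add hz
    rwa [add_zero] at this
  | smul r y _ hy =>
    obtain ⟨r', rfl⟩ := red_surjective P C' r
    have := hy.smul r'
    simp only [Pi.zero_apply, mul_zero] at this
    exact this

/-- the obstruction cocycle, with values in `B₀^r`. -/
noncomputable def obsFun (hp : IsSemismallExt p) (q : relKer P) : Fin 𝔟.r → B₀ :=
  (isObs_exists 𝔏 𝔟 hp q.1 q.2).choose

lemma obsFun_spec (hp : IsSemismallExt p) (q : relKer P) :
    IsObs 𝔏 𝔟 q.1 (obsFun 𝔏 𝔟 hp q) :=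
  (isObs_exists 𝔏 𝔟 hp q.1 q.2).choose_spec

lemma obsFun_eq_of_isObs (hp : IsSemismallExt p) (q : relKer P) (β : Fin 𝔟.r → B₀)
    (h : IsObs 𝔏 𝔟 q.1 β) : obsFun 𝔏 𝔟 hp q = β :=
  isObs_unique 𝔏 𝔟 hp (obsFun_spec 𝔏 𝔟 hp q) h

/-- the `i`-th obstruction cocycle. -/
noncomputable def obsLin (hp : IsSemismallExt p) (i : Fin 𝔟.r) :
    relKer P →ₗ[P.toExtension.Ring] B₀ where
  toFun q := obsFun 𝔏 𝔟 hp q i
  map_add' q q' := by
    have := obsFun_eq_of_isObs 𝔏 𝔟 hp (q + q') _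
      ((obsFun_spec 𝔏 𝔟 hp q).add (obsFun_spec 𝔏 𝔟 hp q'))
    rw [this]
    rfl
  map_smul' r q := by
    obtain ⟨r', rfl⟩ := red_surjective P C' r
    have h1 := (obsFun_spec 𝔏 𝔟 hp q).smul r'
    have h3 := obsFun_eq_of_isObs 𝔏 𝔟 hp (red P C' r' • q) _ h1
    rw [h3, RingHom.id_apply, Algebra.smul_def]

lemma obsLin_apply (hp : IsSemismallExt p) (i : Fin 𝔟.r) (q : relKer P) :
    obsLin 𝔏 𝔟 hp i q = obsFun 𝔏 𝔟 hp q i := rfl

/-- the `i`-th obstruction cocycle as a cocycle. -/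
noncomputable def obsZ (hp : IsSemismallExt p) (i : Fin 𝔟.r) : Z2 P :=
  ⟨obsLin 𝔏 𝔟 hp i, fun q hq => by
    rw [obsLin_apply, obsFun_eq_of_isObs 𝔏 𝔟 hp q 0 (isObs_trivRel 𝔏 𝔟 q.1 hq)]
    rfl⟩

/-- the `i`-th obstruction class. -/
noncomputable def ocl (hp : IsSemismallExt p) (i : Fin 𝔟.r) : T2 P B₀ := cl (obsZ 𝔏 𝔟 hp i)

end MD

end Groth.Agent.H61.ObsR
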