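import Groth.Agent.H61.ObsR.LiftR

set_option linter.style.haveILetI false
set_option linter.unusedSectionVars false
set_option autoImplicit false

/-!
# Functoriality of the obstruction classes along a morphism of semismall extensions
-/

namespace Groth.Agent.H61.ObsR

universe u

open ArtFun ArtFun.Art CotT Groth.Agent.H61.Hull CategoryTheory

variable {k : Type u} [Field k] {B₀ : Type u} [CommRing B₀] [Algebra k B₀]
  {ι σ : Type u} {P : Algebra.Presentation k B₀ ι σ} {C' C'' C : Art k k}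

section Phi

variable (ι) (g : C' ⟶ C'')

/-- change of coefficients along `g`. -/
noncomputable def Φ : MvPolynomial ι C' →+* MvPolynomial ι C'' :=
  MvPolynomial.map (g.toAlgHom : C' →+* C'')

variable {ι}

lemma Φ_C (c : C') : Φ ι g (MvPolynomial.C c) = MvPolynomial.C (g.toAlgHom c) :=
  MvPolynomial.map_C _ c

variable (P) in
lemma red_Φ (G : MvPolynomial ι C') : red P C'' (Φ ι g G) = red P C' G := by
  change MvPolynomial.map (C''.res : C'' →+* k) (MvPolynomial.map (g.toAlgHom : C' →+* C'') G) =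
    MvPolynomial.map (C'.res : C' →+* k) G
  have h : (C''.res : C'' →+* k).comp (g.toAlgHom : C' →+* C'') = (C'.res : C' →+* k) :=
    RingHom.ext fun c => res_app g c
  rw [MvPolynomial.map_map, h]

lemma pr_Φ {p : C' ⟶ C} {p'' : C'' ⟶ C} (hg : g ≫ p'' = p) (G : MvPolynomial ι C') :
    pr ι p'' (Φ ι g G) = pr ι p G := by
  change MvPolynomial.map (p''.toAlgHom : C'' →+* C) (MvPolynomial.map (g.toAlgHom : C' →+* C'') G) =
    MvPolynomial.map (p.toAlgHom : C' →+* C) G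
  have h : (p''.toAlgHom : C'' →+* C).comp (g.toAlgHom : C' →+* C'') = (p.toAlgHom : C' →+* C) := by
    rw [← hg]
    rfl
  rw [MvPolynomial.map_map, h]

end Phi

namespace MD

variable {M : MD P C} {p : C' ⟶ C} {p'' : C'' ⟶ C} (g : C' ⟶ C'') (hg : g ≫ p'' = p)

include hg in
lemma Φ_mem_I' {G : MvPolynomial ι C'} (hG : G ∈ M.I' p) : Φ ι g G ∈ M.I' p'' := by
  rw [mem_I', pr_Φ g hg]
  exact (M.mem_I' p).mp hG

include hg in
lemma Φ_mem_KI {G : MvPolynomial ι C'} (hG : G ∈ M.KI p) : Φ ι g G ∈ M.KI p'' := by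
  have h1 : (M.KI p).map (Φ ι g) ≤ M.KI p'' := by
    unfold KI
    rw [Ideal.map_mul]
    refine Ideal.mul_mono ?_ ?_
    · rw [Ideal.map_map, Ideal.map_le_iff_le_comap]
      intro c hc
      rw [Ideal.mem_comap]
      change Φ ι g (MvPolynomial.C c) ∈ _
      rw [Φ_C]
      refine Ideal.mem_map_of_mem _ ?_
      rw [mem_maximalIdeal_iff] at hc ⊢
      change C''.res (g c) = 0
      rw [res_app, hc]
    · rw [Ideal.map_le_iff_le_comap]
      intro G hG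
      exact Φ_mem_I' g hg hG
  exact h1 (Ideal.mem_map_of_mem _ hG)

include hg in
lemma g_mem_ker {j : C'} (hj : j ∈ RingHom.ker p.toAlgHom) :
    g.toAlgHom j ∈ RingHom.ker p''.toAlgHom := by
  have h1 : p''.toAlgHom (g.toAlgHom j) = p.toAlgHom j := by
    rw [← hg]
    rfl
  rw [RingHom.mem_ker, h1]
  exact (RingHom.mem_ker).mp hj

/-- the transported lifts of the relations. -/
noncomputable def LiftFn.push (𝔏 : M.LiftFn p) : M.LiftFn p'' where
  L s := Φ ι g (𝔏.L s)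
  mem s := Φ_mem_I' g hg (𝔏.mem s)
  red_eq s := by rw [red_Φ, 𝔏.red_eq]

/-- the matrix of `g` on the kernels. -/
noncomputable def mat (𝔟 : KB p) (𝔟'' : KB p'') (i : Fin 𝔟.r) (j : Fin 𝔟''.r) : k :=
  𝔟''.b.repr ⟨g.toAlgHom (𝔟.t i), g_mem_ker g hg (𝔟.t_mem i)⟩ j

lemma g_t (𝔟 : KB p) (𝔟'' : KB p'') (i : Fin 𝔟.r) :
    g.toAlgHom (𝔟.t i) = ∑ j, algebraMap k C'' (mat g hg 𝔟 𝔟'' i j) * 𝔟''.t j := by
  have hmem : g.toAlgHom (𝔟.t i) ∈ RingHom.ker p''.toAlgHom := g_mem_ker g hg (𝔟.t_mem i)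
  have h := 𝔟''.b.sum_repr ⟨g.toAlgHom (𝔟.t i), hmem⟩
  have h2 : ((∑ j, (𝔟''.b.repr ⟨g.toAlgHom (𝔟.t i), hmem⟩) j • 𝔟''.b j :
      ↥(RingHom.ker p''.toAlgHom)) : C'') = g.toAlgHom (𝔟.t i) :=
    congrArg (Subtype.val : ↥(RingHom.ker p''.toAlgHom) → C'') h
  rw [AddSubmonoidClass.coe_finsetSum] at h2
  conv_lhs => rw [← h2]
  refine Finset.sum_congr rfl fun j _ => ?_
  rw [← Algebra.smul_def]
  rfl

lemma JJ_push (𝔏 : M.LiftFn p) (x : σ →₀ MvPolynomial ι C') :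
    JJ (𝔏.push g hg).L (Finsupp.mapRange (Φ ι g) (map_zero _) x) = Φ ι g (JJ 𝔏.L x) := by
  unfold JJ
  rw [Finsupp.linearCombination_apply, Finsupp.linearCombination_apply,
    Finsupp.sum_mapRange_index (fun s => by rw [zero_smul]), Finsupp.sum, Finsupp.sum, map_sum]
  refine Finset.sum_congr rfl fun s _ => ?_
  rw [smul_eq_mul, smul_eq_mul, map_mul]
  rfl

lemma mapRed_push (x : σ →₀ MvPolynomial ι C') :
    mapRed P C'' (Finsupp.mapRange (Φ ι g) (map_zero _) x) = mapRed P C' x := by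
  ext s
  rw [mapRed_apply, mapRed_apply, Finsupp.mapRange_apply, red_Φ]

/-- push-forward of obstruction values. -/
lemma IsObs.push (𝔏 : M.LiftFn p) (𝔟 : KB p) (𝔟'' : KB p'') {q : relMod P} {β : Fin 𝔟.r → B₀}
    (h : IsObs 𝔏 𝔟 q β) :
    IsObs (𝔏.push g hg) 𝔟'' q (fun j => ∑ i, algebraMap k B₀ (mat g hg 𝔟 𝔟'' i j) * β i) := by
  obtain ⟨x, G, h1, h2, h3⟩ := h
  refine ⟨Finsupp.mapRange (Φ ι g) (map_zero _) x,
    fun j => ∑ i, MvPolynomial.C (algebraMap k C'' (mat g hg 𝔟 𝔟'' i j)) * Φ ι g (G i), ?_, ?_, ?_⟩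
  · rw [mapRed_push, h1]
  · have e1 : ∑ j, MvPolynomial.C (𝔟''.t j) *
        ∑ i, MvPolynomial.C (algebraMap k C'' (mat g hg 𝔟 𝔟'' i j)) * Φ ι g (G i) =
        Φ ι g (∑ i, MvPolynomial.C (𝔟.t i) * G i) := by
      rw [map_sum]
      simp only [Finset.mul_sum]
      rw [Finset.sum_comm]
      refine Finset.sum_congr rfl fun i _ => ?_
      rw [map_mul, Φ_C, g_t g hg 𝔟 𝔟'' i, map_sum, Finset.sum_mul]
      refine Finset.sum_congr rfl fun j _ => ?_
      rw [map_mul]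
      ring
    rw [e1, JJ_push, ← map_sub]
    exact Φ_mem_KI g hg h2
  · intro j
    rw [map_sum, map_sum]
    refine Finset.sum_congr rfl fun i _ => ?_
    rw [map_mul, map_mul, red_Φ, h3 i, red_C, res_algebraMap, algebraMap_C]

/-- **Functoriality of the obstruction classes.** -/
theorem ocl_push (hp : IsSemismallExt p) (hp'' : IsSemismallExt p'') (𝔏 : M.LiftFn p)
    (𝔏'' : M.LiftFn p'') (𝔟 : KB p) (𝔟'' : KB p'') (j : Fin 𝔟''.r) :
    ocl 𝔏'' 𝔟'' hp'' j = ∑ i, mat g hg 𝔟 𝔟'' i j • ocl 𝔏 𝔟 hp i := by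
  rw [ocl_indep hp'' 𝔏'' (𝔏.push g hg) 𝔟'' j]
  unfold ocl
  rw [← Finset.sum_congr rfl fun i _ => map_smul cl (mat g hg 𝔟 𝔟'' i j) (obsZ 𝔏 𝔟 hp i),
    ← map_sum]
  congr 1
  apply Subtype.ext
  apply LinearMap.ext
  intro q
  change obsLin (𝔏.push g hg) 𝔟'' hp'' j q = _
  rw [obsLin_apply]
  have h1 := IsObs.push g hg 𝔏 𝔟 𝔟'' (obsFun_spec 𝔏 𝔟 hp q)
  rw [obsFun_eq_of_isObs (𝔏.push g hg) 𝔟'' hp'' q _ h1]
  rw [AddSubmonoidClass.coe_finsetSum, LinearMap.sum_apply]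
  refine Finset.sum_congr rfl fun i _ => ?_
  change _ = (mat g hg 𝔟 𝔟'' i j • (obsZ 𝔏 𝔟 hp i).1) q
  rw [LinearMap.smul_apply, Algebra.smul_def]
  rfl

end MD

end Groth.Agent.H61.ObsR
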