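import Groth.Agent.H61.ObsR.Cocycle

set_option linter.style.haveILetI false
set_option linter.unusedSectionVars false
set_option autoImplicit false

/-!
# The obstruction classes do not depend on the lifts of the relations
-/

namespace Groth.Agent.H61.ObsR

universe u

open ArtFun ArtFun.Art CotT Groth.Agent.H61.Hull

variable {k : Type u} [Field k] {B₀ : Type u} [CommRing B₀] [Algebra k B₀]
  {ι σ : Type u} {P : Algebra.Presentation k B₀ ι σ} {C' C : Art k k}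

lemma cl_eq_of_sub (o o' : Z2 P) (η : σ → B₀)
    (h : ∀ q : relKer P, o.1 q - o'.1 q =
      (q : relMod P).sum fun s r => algebraMap P.toExtension.Ring B₀ r * η s) : cl o = cl o' := by
  rw [← sub_eq_zero, ← map_sub, cl_eq_zero_iff]
  exact ⟨η, fun q => h q⟩

lemma sum_mapRed (x : σ →₀ MvPolynomial ι C') (η : σ → B₀) :
    ((mapRed P C' x : relMod P).sum fun s r => algebraMap P.toExtension.Ring B₀ r * η s) =
      x.sum fun s r => algebraMap P.toExtension.Ring B₀ (red P C' r) * η s := by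
  have h5 : (mapRed P C' x : relMod P) = Finsupp.mapRange (red P C') (map_zero _) x := rfl
  rw [h5, Finsupp.sum_mapRange_index (fun s => by rw [map_zero, zero_mul])]

namespace MD

variable {M : MD P C} {p : C' ⟶ C}

/-- comparing two choices of lifts. -/
lemma exists_diff (hp : IsSemismallExt p) (𝔏 𝔏' : M.LiftFn p) (𝔟 : KB p) :
    ∃ H : σ → Fin 𝔟.r → MvPolynomial ι C',
      ∀ s, 𝔏.L s - 𝔏'.L s - ∑ i, MvPolynomial.C (𝔟.t i) * H s i ∈ M.KI p := by
  have h : ∀ s, ∃ Hs : Fin 𝔟.r → MvPolynomial ι C',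
      𝔏.L s - 𝔏'.L s - ∑ i, MvPolynomial.C (𝔟.t i) * Hs i ∈ M.KI p := by
    intro s
    have h1 : 𝔏.L s - 𝔏'.L s ∈ M.I' p := Ideal.sub_mem _ (𝔏.mem s) (𝔏'.mem s)
    have h2 : red P C' (𝔏.L s - 𝔏'.L s) = 0 := by
      rw [map_sub, 𝔏.red_eq, 𝔏'.red_eq, sub_self]
    have h3 := M.mem_of_red_eq_zero p hp.1 _ h1 h2
    rw [Submodule.mem_sup] at h3
    obtain ⟨κ, hκ, z, hz, hsum⟩ := h3
    obtain ⟨Hs, rfl⟩ := 𝔟.exists_of_mem_JR z hz
    refine ⟨Hs, ?_⟩
    have : 𝔏.L s - 𝔏'.L s - ∑ i, MvPolynomial.C (𝔟.t i) * Hs i = κ := by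
      rw [← hsum]; ring
    rw [this]
    exact hκ
  choose H hH using h
  exact ⟨H, hH⟩

lemma isObs_change (𝔏 𝔏' : M.LiftFn p) (𝔟 : KB p)
    (H : σ → Fin 𝔟.r → MvPolynomial ι C')
    (hH : ∀ s, 𝔏.L s - 𝔏'.L s - ∑ i, MvPolynomial.C (𝔟.t i) * H s i ∈ M.KI p)
    {q : relMod P} {β : Fin 𝔟.r → B₀} (h : IsObs 𝔏 𝔟 q β) :
    IsObs 𝔏' 𝔟 q (fun i => β i - q.sum fun s r =>
      algebraMap P.toExtension.Ring B₀ r * algebraMap P.toExtension.Ring B₀ (red P C' (H s i))) := by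
  obtain ⟨x, G, h1, h2, h3⟩ := h
  refine ⟨x, fun i => G i - x.sum fun s r => r * H s i, h1, ?_, ?_⟩
  · have hU : ∑ i, MvPolynomial.C (𝔟.t i) * (x.sum fun s r => r * H s i) =
        x.sum fun s r => r * ∑ i, MvPolynomial.C (𝔟.t i) * H s i := by
      simp only [Finsupp.sum, Finset.mul_sum]
      rw [Finset.sum_comm]
      refine Finset.sum_congr rfl fun s _ => Finset.sum_congr rfl fun i _ => ?_
      ring
    have hA : JJ 𝔏.L x - JJ 𝔏'.L x = x.sum fun s r => r * (𝔏.L s - 𝔏'.L s) := by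
      unfold JJ
      rw [Finsupp.linearCombination_apply, Finsupp.linearCombination_apply]
      simp only [Finsupp.sum, smul_eq_mul, mul_sub, Finset.sum_sub_distrib]
    have hS : (x.sum fun s r => r * (𝔏.L s - 𝔏'.L s - ∑ i, MvPolynomial.C (𝔟.t i) * H s i)) =
        (x.sum fun s r => r * (𝔏.L s - 𝔏'.L s)) -
          x.sum fun s r => r * ∑ i, MvPolynomial.C (𝔟.t i) * H s i := by
      simp only [Finsupp.sum, mul_sub, Finset.sum_sub_distrib]
    have e1 : JJ 𝔏'.L x - ∑ i, MvPolynomial.C (𝔟.t i) * (G i - x.sum fun s r => r * H s i) =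
        (JJ 𝔏.L x - ∑ i, MvPolynomial.C (𝔟.t i) * G i) -
          x.sum fun s r => r * (𝔏.L s - 𝔏'.L s - ∑ i, MvPolynomial.C (𝔟.t i) * H s i) := by
      rw [hS, ← hA, ← hU]
      simp only [mul_sub, Finset.sum_sub_distrib]
      ring
    rw [e1]
    refine Ideal.sub_mem _ h2 ?_
    rw [Finsupp.sum]
    exact Ideal.sum_mem _ fun s _ => Ideal.mul_mem_left _ _ (hH s)
  · intro i
    change algebraMap P.toExtension.Ring B₀ (red P C' (G i - x.sum fun s r => r * H s i)) =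
      β i - q.sum fun s r =>
        algebraMap P.toExtension.Ring B₀ r * algebraMap P.toExtension.Ring B₀ (red P C' (H s i))
    rw [map_sub, map_sub, h3 i, ← h1, sum_mapRed]
    congr 1
    rw [Finsupp.sum, Finsupp.sum, map_sum, map_sum]
    refine Finset.sum_congr rfl fun s _ => ?_
    rw [map_mul, map_mul]

/-- the obstruction classes do not depend on the lifts. -/
theorem ocl_indep (hp : IsSemismallExt p) (𝔏 𝔏' : M.LiftFn p) (𝔟 : KB p) (i : Fin 𝔟.r) :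
    ocl 𝔏 𝔟 hp i = ocl 𝔏' 𝔟 hp i := by
  obtain ⟨H, hH⟩ := exists_diff hp 𝔏 𝔏' 𝔟
  unfold ocl
  refine cl_eq_of_sub _ _
    (fun s => algebraMap P.toExtension.Ring B₀ (red P C' (H s i))) fun q => ?_
  change obsLin 𝔏 𝔟 hp i q - obsLin 𝔏' 𝔟 hp i q = _
  rw [obsLin_apply, obsLin_apply]
  have h1 := isObs_change 𝔏 𝔏' 𝔟 H hH (obsFun_spec 𝔏 𝔟 hp q)
  rw [obsFun_eq_of_isObs 𝔏' 𝔟 hp q _ h1]
  ring

end MD

end Groth.Agent.H61.ObsR
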