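import Groth.Agent.H61.ObsR.Vanish

set_option linter.style.haveILetI false
set_option linter.unusedSectionVars false
set_option autoImplicit false

/-!
# Vanishing obstruction classes give a lift of the deformation
-/

namespace Groth.Agent.H61.ObsR

universe u

open ArtFun ArtFun.Art CotT Groth.Agent.H61.Hull

variable {k : Type u} [Field k] {B₀ : Type u} [CommRing B₀] [Algebra k B₀]
  {ι σ : Type u} {P : Algebra.Presentation k B₀ ι σ} {C' C : Art k k}

namespace MD

variable {M : MD P C} {p : C' ⟶ C}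

lemma red_C_t (hp : IsSemismallExt p) (𝔟 : KB p) (i : Fin 𝔟.r) :
    red P C' (MvPolynomial.C (𝔟.t i)) = 0 := by
  apply MD.red_eq_zero_of_mem_JR p hp
  exact Ideal.mem_map_of_mem _ (𝔟.t_mem i)

lemma C_t_mem_JR (𝔟 : KB p) (i : Fin 𝔟.r) :
    (MvPolynomial.C (𝔟.t i) : MvPolynomial ι C') ∈ JR (ι := ι) p :=
  Ideal.mem_map_of_mem _ (𝔟.t_mem i)

lemma JR_le_map_maximalIdeal (hp : IsSemismallExt p) :
    JR (ι := ι) p ≤ (IsLocalRing.maximalIdeal C').map (MvPolynomial.C : C' →+* MvPolynomial ι C') := by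
  refine Ideal.map_mono ?_
  intro j hj
  have hj' : p.toAlgHom j = 0 := (RingHom.mem_ker).mp hj
  rw [mem_maximalIdeal_iff, ← res_app p]
  change C.res (p.toAlgHom j) = 0
  rw [hj', map_zero]

/-- modify the lifts of the relations so that the cocycles vanish. -/
lemma exists_liftFn_isObs_zero (hp : IsSemismallExt p) (𝔏 : M.LiftFn p) (𝔟 : KB p)
    (h0 : ∀ i, ocl 𝔏 𝔟 hp i = 0) :
    ∃ 𝔏' : M.LiftFn p, ∀ q : relKer P, IsObs 𝔏' 𝔟 q.1 0 := by
  have hη : ∀ i, ∃ η : σ → B₀, ∀ q : relKer P,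
      (obsZ 𝔏 𝔟 hp i).1 q =
        (q : relMod P).sum fun s r => algebraMap P.toExtension.Ring B₀ r * η s := by
    intro i
    exact (cl_eq_zero_iff _).mp (h0 i)
  choose η hη using hη
  have hsurj : Function.Surjective ((algebraMap P.toExtension.Ring B₀).comp (red P C')) :=
    (P.toExtension.algebraMap_surjective).comp (red_surjective P C')
  choose H hH using fun (s : σ) (i : Fin 𝔟.r) => hsurj (η i s)
  have hH' : ∀ s i, algebraMap P.toExtension.Ring B₀ (red P C' (H s i)) = η i s := hH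
  let 𝔏' : M.LiftFn p :=
    { L := fun s => 𝔏.L s - ∑ i, MvPolynomial.C (𝔟.t i) * H s i
      mem := fun s => Ideal.sub_mem _ (𝔏.mem s) (Ideal.sum_mem _ fun i _ =>
        Ideal.mul_mem_right _ _ (M.JR_le_I' p (C_t_mem_JR 𝔟 i)))
      red_eq := fun s => by
        rw [map_sub, map_sum, 𝔏.red_eq, sub_eq_self]
        refine Finset.sum_eq_zero fun i _ => ?_
        rw [map_mul, red_C_t hp 𝔟 i, zero_mul] }
  refine ⟨𝔏', fun q => ?_⟩
  have h1 := isObs_change 𝔏 𝔏' 𝔟 H (fun s => by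
    have : 𝔏.L s - 𝔏'.L s - ∑ i, MvPolynomial.C (𝔟.t i) * H s i = 0 := by
      change 𝔏.L s - (𝔏.L s - ∑ i, MvPolynomial.C (𝔟.t i) * H s i) - _ = 0
      ring
    rw [this]
    exact Ideal.zero_mem _) (obsFun_spec 𝔏 𝔟 hp q)
  have h2 : (fun i => obsFun 𝔏 𝔟 hp q i - (q : relMod P).sum fun s r =>
      algebraMap P.toExtension.Ring B₀ r * algebraMap P.toExtension.Ring B₀ (red P C' (H s i))) =
      (0 : Fin 𝔟.r → B₀) := by
    funext i
    rw [Pi.zero_apply, sub_eq_zero]
    have h3 := hη i q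
    change obsLin 𝔏 𝔟 hp i q = _ at h3
    rw [obsLin_apply] at h3
    rw [h3]
    simp only [hH']
  rw [h2] at h1
  exact h1

/-- the lifting theorem: if the cocycles vanish, the deformation lifts. -/
theorem exists_lift_of_isObs_zero (hp : IsSemismallExt p) (𝔏 : M.LiftFn p) (𝔟 : KB p)
    (h0 : ∀ q : relKer P, IsObs 𝔏 𝔟 q.1 0) :
    ∃ (D' : AD B₀ C') (τ : D'.E →+* M.D.E),
      (∀ a, τ (D'.φ a) = M.D.φ (p.toAlgHom a)) ∧ ∀ e, M.D.π (τ e) = D'.π e := by
  classical
  set R' := MvPolynomial ι C' with hR'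
  let I'' : Ideal R' := Ideal.span (Set.range 𝔏.L) ⊔ M.KI p
  have hI1 : I'' ≤ M.I' p := by
    refine sup_le (Ideal.span_le.mpr ?_) (M.KI_le_I' p)
    rintro _ ⟨s, rfl⟩
    exact 𝔏.mem s
  have hJJ : ∀ x : σ →₀ R', JJ 𝔏.L x ∈ Ideal.span (Set.range 𝔏.L) := by
    intro x
    unfold JJ
    rw [Finsupp.linearCombination_apply, Finsupp.sum]
    exact Ideal.sum_mem _ fun s _ => Ideal.mul_mem_left _ _ (Ideal.subset_span ⟨s, rfl⟩)
  have hI2 : M.I' p ≤ I'' ⊔ JR p := by
    intro y hy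
    have h1 : red P C' y ∈ LinearMap.range (jmap P) := by
      rw [range_jmap]
      exact M.red_mem_ker' p hy
    obtain ⟨q₀, hq₀⟩ := h1
    obtain ⟨x₀, rfl⟩ := mapRed_surjective P (C' := C') q₀
    have h2 : y - JJ 𝔏.L x₀ ∈ M.I' p := Ideal.sub_mem _ hy (JJ_mem 𝔏 x₀)
    have h3 : red P C' (y - JJ 𝔏.L x₀) = 0 := by
      rw [map_sub, red_JJ, hq₀, sub_self]
    have h4 := M.mem_of_red_eq_zero p hp.1 _ h2 h3
    rw [Submodule.mem_sup] at h4
    obtain ⟨κ, hκ, z, hz, hsum⟩ := h4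
    have h5 : y = (JJ 𝔏.L x₀ + κ) + z := by
      rw [add_assoc, hsum]; ring
    rw [h5]
    exact Submodule.add_mem_sup (Ideal.add_mem _ (Ideal.mem_sup_left (hJJ x₀))
      (Ideal.mem_sup_right hκ)) hz
  have hI4 : ∀ G : Fin 𝔟.r → R', ∑ i, MvPolynomial.C (𝔟.t i) * G i ∈ I'' →
      ∀ i, algebraMap P.toExtension.Ring B₀ (red P C' (G i)) = 0 := by
    intro G hG
    rw [Submodule.mem_sup] at hG
    obtain ⟨y, hy, κ, hκ, hsum⟩ := hG
    change y ∈ Submodule.span _ _ at hy
    rw [Finsupp.mem_span_range_iff_exists_finsupp] at hy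
    obtain ⟨x, rfl⟩ := hy
    have hx : (x.sum fun s r => r • 𝔏.L s) = JJ 𝔏.L x := by
      unfold JJ
      rw [Finsupp.linearCombination_apply]
    rw [hx] at hsum
    have hq : mapRed P C' x ∈ relKer P := by
      change jmap P (mapRed P C' x) = 0
      rw [← red_JJ 𝔏]
      have h2 : JJ 𝔏.L x = ∑ i, MvPolynomial.C (𝔟.t i) * G i - κ := by
        rw [← hsum]; ring
      rw [h2, map_sub, map_sum, M.red_eq_zero_of_mem_KI p hκ, sub_zero]
      refine Finset.sum_eq_zero fun i _ => ?_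
      rw [map_mul, red_C_t hp 𝔟 i, zero_mul]
    have hobs : IsObs 𝔏 𝔟 (mapRed P C' x)
        (fun i => algebraMap P.toExtension.Ring B₀ (red P C' (G i))) := by
      refine ⟨x, G, rfl, ?_, fun i => rfl⟩
      have : JJ 𝔏.L x - ∑ i, MvPolynomial.C (𝔟.t i) * G i = -κ := by
        rw [← hsum]; ring
      rw [this]
      exact neg_mem hκ
    have h3 := isObs_unique 𝔏 𝔟 hp hobs (h0 ⟨_, hq⟩)
    intro i
    exact congrFun h3 i
  -- the lifted algebra
  let E := R' ⧸ I''
  let mk : R' →+* E := Ideal.Quotient.mk I''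
  have hmk : Function.Surjective mk := Ideal.Quotient.mk_surjective
  let φ' : C' →+* E := mk.comp (MvPolynomial.C : C' →+* R')
  let π' : E →+* B₀ := Ideal.Quotient.lift I'' ((algebraMap P.toExtension.Ring B₀).comp (red P C'))
    (fun G hG => M.red_mem_ker' p (hI1 hG))
  let τ : E →+* M.D.E := Ideal.Quotient.lift I'' (M.evp p) (fun G hG => hI1 hG)
  have hπ' : ∀ G, π' (mk G) = algebraMap P.toExtension.Ring B₀ (red P C' G) := fun G => rfl
  have hτ : ∀ G, τ (mk G) = M.evp p G := fun G => rfl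
  have hτsurj : Function.Surjective τ := by
    intro z
    obtain ⟨G₀, rfl⟩ := M.ev_surjective z
    obtain ⟨G, rfl⟩ := pr_surjective (ι := ι) p hp.1 G₀
    exact ⟨mk G, rfl⟩
  -- decomposition of elements of `I'`
  have hdec : ∀ G ∈ M.I' p, ∃ w : Fin 𝔟.r → R', mk G = ∑ i, φ' (𝔟.t i) * mk (w i) := by
    intro G hG
    have h5 := hI2 hG
    rw [Submodule.mem_sup] at h5
    obtain ⟨y, hy, z, hz, hsum⟩ := h5
    obtain ⟨w, rfl⟩ := 𝔟.exists_of_mem_JR z hz
    refine ⟨w, ?_⟩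
    rw [← hsum, map_add, Ideal.Quotient.eq_zero_iff_mem.mpr hy, zero_add, map_sum]
    refine Finset.sum_congr rfl fun i _ => ?_
    rw [map_mul]
    rfl
  have htm : ∀ i, 𝔟.t i ∈ IsLocalRing.maximalIdeal C' := by
    intro i
    have hj' : p.toAlgHom (𝔟.t i) = 0 := (RingHom.mem_ker).mp (𝔟.t_mem i)
    rw [mem_maximalIdeal_iff, ← res_app p]
    change C.res (p.toAlgHom (𝔟.t i)) = 0
    rw [hj', map_zero]
  -- elements of `m' R'` go to `m' E`
  have hK : ∀ κ ∈ (IsLocalRing.maximalIdeal C').map (MvPolynomial.C : C' →+* R'),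
      mk κ ∈ (IsLocalRing.maximalIdeal C').map φ' := by
    intro κ hκ
    have h5 : mk κ ∈ ((IsLocalRing.maximalIdeal C').map (MvPolynomial.C : C' →+* R')).map mk :=
      Ideal.mem_map_of_mem _ hκ
    rw [Ideal.map_map] at h5
    exact h5
  have hτ0 : ∀ G, algebraMap P.toExtension.Ring B₀ (red P C' G) = 0 →
      mk G ∈ (IsLocalRing.maximalIdeal C').map φ' := by
    intro G hG
    have h6 : M.D.π (M.evp p G) = 0 := by
      rw [evp_apply, M.π_ev, red_pr P p, hG]
    obtain ⟨G₂, hG₂, hev⟩ := M.exists_of_π_eq_zero _ h6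
    have h7 : ((IsLocalRing.maximalIdeal C').map (MvPolynomial.C : C' →+* R')).map (pr ι p) =
        (IsLocalRing.maximalIdeal C).map (MvPolynomial.C : C →+* MvPolynomial ι C) := by
      rw [Ideal.map_map]
      have h8 : (pr ι p).comp (MvPolynomial.C : C' →+* MvPolynomial ι C') =
          (MvPolynomial.C : C →+* MvPolynomial ι C).comp (p.toAlgHom : C' →+* C) :=
        RingHom.ext fun c => pr_C p c
      rw [h8, ← Ideal.map_map, map_maximalIdeal p hp.1]
    rw [← h7, Ideal.mem_map_iff_of_surjective _ (pr_surjective p hp.1)] at hG₂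
    obtain ⟨κ, hκ, hκG⟩ := hG₂
    have h9 : G - κ ∈ M.I' p := by
      change G - κ ∈ RingHom.ker (M.evp p)
      rw [RingHom.mem_ker, map_sub, evp_apply M p κ, hκG, hev, sub_self]
    obtain ⟨w, hw⟩ := hdec _ h9
    have h10 : mk G = mk κ + ∑ i, φ' (𝔟.t i) * mk (w i) := by
      rw [← hw, ← map_add]
      congr 1
      ring
    rw [h10]
    refine Ideal.add_mem _ (hK κ hκ) (Ideal.sum_mem _ fun i _ => ?_)
    exact Ideal.mul_mem_right _ _ (Ideal.mem_map_of_mem _ (htm i))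
  letI algDE : Algebra C M.D.E := M.D.φ.toAlgebra
  letI modDE : Module C' M.D.E := Module.compHom M.D.E (p.toAlgHom : C' →+* C)
  have halg : ∀ (c : C') (z : E), c • z = φ' c * z := fun c z => by
    rw [Algebra.smul_def]
    rfl
  have hsmul : ∀ z ∈ (IsLocalRing.maximalIdeal C').map φ',
      z ∈ (IsLocalRing.maximalIdeal C') • (⊤ : Submodule C' E) := by
    intro z hz
    change z ∈ Submodule.span _ _ at hz
    rw [Submodule.mem_span_set'] at hz
    obtain ⟨n, f, g, rfl⟩ := hz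
    refine Submodule.sum_mem _ fun i _ => ?_
    obtain ⟨a, ha, hag⟩ := (g i).2
    rw [← hag, smul_eq_mul, mul_comm, ← halg]
    exact Submodule.smul_mem_smul ha Submodule.mem_top
  let τL : E →ₗ[C'] M.D.E :=
    { toFun := τ
      map_add' := map_add _
      map_smul' := fun c z => by
        obtain ⟨G, rfl⟩ := hmk z
        rw [RingHom.id_apply, halg, map_mul]
        change τ (mk (MvPolynomial.C c)) * _ = M.D.φ (p.toAlgHom c) * _
        rw [hτ, evp_apply, pr_C, ev_C] }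
  have hflat : Module.Flat C' E := by
    haveI : Module.Flat C M.D.E := M.D.flat
    have hker_span : RingHom.ker (p.toAlgHom : C' →+* C) = Ideal.span (Set.range 𝔟.t) := by
      apply le_antisymm
      · intro j hj
        obtain ⟨c, rfl⟩ := 𝔟.exists_repr j hj
        exact Ideal.sum_mem _ fun i _ => Ideal.mul_mem_left _ _ (Ideal.subset_span ⟨i, rfl⟩)
      · rw [Ideal.span_le]
        rintro _ ⟨i, rfl⟩
        exact 𝔟.t_mem i
    refine flat_of_semismall (p := (p.toAlgHom : C' →+* C)) hp.1 𝔟.t hker_span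
      (IsLocalRing.maximalIdeal C') ?_ htm ?_ τL hτsurj ?_ ?_
    · intro a ha i
      have h1 := Ideal.mul_mem_mul ha (𝔟.t_mem i)
      rw [hp.2] at h1
      exact h1
    · intro c b
      rfl
    · intro z hz
      obtain ⟨G, rfl⟩ := hmk z
      have hG : G ∈ M.I' p := hz
      obtain ⟨w, hw⟩ := hdec G hG
      exact ⟨fun i => mk (w i), by
        rw [hw]
        exact Finset.sum_congr rfl fun i _ => (halg _ _).symm⟩
    · intro z hz i
      choose G hG using fun i => hmk (z i)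
      have h1 : ∑ i, MvPolynomial.C (𝔟.t i) * G i ∈ I'' := by
        rw [← Ideal.Quotient.eq_zero_iff_mem]
        change mk (∑ i, MvPolynomial.C (𝔟.t i) * G i) = 0
        rw [map_sum, ← hz]
        refine Finset.sum_congr rfl fun i _ => ?_
        rw [map_mul, hG i, halg]
        rfl
      rw [← hG i]
      exact hsmul _ (hτ0 _ (hI4 G h1 i))
  have hπ'surj : Function.Surjective π' := by
    intro b
    obtain ⟨g, rfl⟩ := P.toExtension.algebraMap_surjective b
    obtain ⟨G, rfl⟩ := red_surjective P C' g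
    exact ⟨mk G, rfl⟩
  have hflat' : φ'.Flat := by
    have h1 : φ' = algebraMap C' E := RingHom.ext fun c => rfl
    rw [h1, RingHom.flat_algebraMap_iff]
    exact hflat
  refine ⟨⟨E, φ', π', hflat', hπ'surj, ?_, ?_⟩, τ, ?_, ?_⟩
  · intro a
    change π' (mk (MvPolynomial.C a)) = _
    rw [hπ', red_C, algebraMap_C]
  · apply le_antisymm
    · intro z hz
      obtain ⟨G, rfl⟩ := hmk z
      exact hτ0 G hz
    · rw [Ideal.map_le_iff_le_comap]
      intro c hc
      rw [Ideal.mem_comap, RingHom.mem_ker]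
      change π' (mk (MvPolynomial.C c)) = 0
      rw [hπ', red_C, (mem_maximalIdeal_iff C' c).mp hc, map_zero]
      exact map_zero _
  · intro a
    change τ (mk (MvPolynomial.C a)) = _
    rw [hτ, evp_apply, pr_C, ev_C]
  · intro z
    obtain ⟨G, rfl⟩ := hmk z
    rw [hτ, evp_apply, M.π_ev, red_pr P p]
    rfl

/-- **The obstruction classes vanish exactly when the deformation lifts.** -/
theorem forall_ocl_eq_zero_iff (hp : IsSemismallExt p) (𝔏 : M.LiftFn p) (𝔟 : KB p) :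
    (∀ i, ocl 𝔏 𝔟 hp i = 0) ↔
      ∃ (D' : AD B₀ C') (τ : D'.E →+* M.D.E),
        (∀ a, τ (D'.φ a) = M.D.φ (p.toAlgHom a)) ∧ ∀ e, M.D.π (τ e) = D'.π e := by
  constructor
  · intro h0
    obtain ⟨𝔏', h𝔏'⟩ := exists_liftFn_isObs_zero hp 𝔏 𝔟 h0
    exact exists_lift_of_isObs_zero hp 𝔏' 𝔟 h𝔏'
  · rintro ⟨D', τ, h1, h2⟩ i
    exact ocl_eq_zero_of_lift hp 𝔏 𝔟 D' τ h1 h2 i

end MD

end Groth.Agent.H61.ObsR
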