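import Groth.Agent.H61.ObsR.Setting

set_option linter.style.haveILetI false
set_option linter.unusedSectionVars false
set_option autoImplicit false

/-!
# A marked deformation over `C` seen from a semismall extension `C' → C`
-/

namespace Groth.Agent.H61.ObsR

universe u

open ArtFun ArtFun.Art CotT Groth.Agent.H61.Hull

variable {k : Type u} [Field k] {B₀ : Type u} [CommRing B₀] [Algebra k B₀]
  {ι σ : Type u} {P : Algebra.Presentation k B₀ ι σ} {C' C : Art k k}

section Pr

variable (ι) (p : C' ⟶ C)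

/-- reduction of coefficients along `p`. -/
noncomputable def pr : MvPolynomial ι C' →+* MvPolynomial ι C :=
  MvPolynomial.map (p.toAlgHom : C' →+* C)

variable {ι}

lemma pr_C (c : C') : pr ι p (MvPolynomial.C c) = MvPolynomial.C (p.toAlgHom c) :=
  MvPolynomial.map_C _ c

lemma pr_X (i : ι) : pr ι p (MvPolynomial.X i) = MvPolynomial.X i :=
  MvPolynomial.map_X _ i

lemma pr_surjective (hp : Function.Surjective p) : Function.Surjective (pr ι p) :=
  MvPolynomial.map_surjective _ hp

lemma ker_pr : RingHom.ker (pr ι p) =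
    (RingHom.ker p.toAlgHom).map (MvPolynomial.C : C' →+* MvPolynomial ι C') :=
  MvPolynomial.ker_map _

variable (P) in
lemma red_pr (G : MvPolynomial ι C') : red P C (pr ι p G) = red P C' G := by
  change MvPolynomial.map (C.res : C →+* k) (MvPolynomial.map (p.toAlgHom : C' →+* C) G) =
    MvPolynomial.map (C'.res : C' →+* k) G
  have h : (C.res : C →+* k).comp (p.toAlgHom : C' →+* C) = (C'.res : C' →+* k) :=
    RingHom.ext fun c => res_app p c
  rw [MvPolynomial.map_map, h]

lemma map_maximalIdeal (hp : Function.Surjective p) :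
    (IsLocalRing.maximalIdeal C').map (p.toAlgHom : C' →+* C) = IsLocalRing.maximalIdeal C := by
  apply le_antisymm
  · rw [Ideal.map_le_iff_le_comap]
    intro c hc
    rw [Ideal.mem_comap, mem_maximalIdeal_iff]
    change C.res (p c) = 0
    rw [res_app, ← mem_maximalIdeal_iff]
    exact hc
  · intro c hc
    obtain ⟨c', rfl⟩ := hp c
    refine Ideal.mem_map_of_mem _ ?_
    rw [mem_maximalIdeal_iff] at hc ⊢
    rw [← res_app p]
    exact hc

end Pr

namespace MD

variable (M : MD P C) (p : C' ⟶ C)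

/-- evaluation from `C'[x]`. -/
noncomputable def evp : MvPolynomial ι C' →+* M.D.E := M.ev.comp (pr ι p)

lemma evp_apply (G : MvPolynomial ι C') : M.evp p G = M.ev (pr ι p G) := rfl

/-- the kernel of `C'[x] → D.E`. -/
noncomputable def I' : Ideal (MvPolynomial ι C') := RingHom.ker (M.evp p)

lemma mem_I' {G : MvPolynomial ι C'} : G ∈ M.I' p ↔ pr ι p G ∈ M.I := by
  change G ∈ RingHom.ker _ ↔ _ ∈ RingHom.ker _
  rw [RingHom.mem_ker, RingHom.mem_ker]
  rfl

lemma I'_eq_comap : M.I' p = M.I.comap (pr ι p) := by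
  ext G
  rw [Ideal.mem_comap]
  exact M.mem_I' p

/-- `m' R' · I'`. -/
noncomputable def KI : Ideal (MvPolynomial ι C') :=
  (IsLocalRing.maximalIdeal C').map (MvPolynomial.C : C' →+* MvPolynomial ι C') * M.I' p

/-- `J R'`. -/
noncomputable def JR : Ideal (MvPolynomial ι C') :=
  (RingHom.ker p.toAlgHom).map (MvPolynomial.C : C' →+* MvPolynomial ι C')

lemma JR_eq_ker_pr : JR (ι := ι) p = RingHom.ker (pr ι p) := (ker_pr p).symm

lemma JR_le_I' : JR p ≤ M.I' p := by
  intro G hG
  rw [JR_eq_ker_pr] at hG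
  rw [mem_I', (RingHom.mem_ker).mp hG]
  exact Ideal.zero_mem _

lemma KI_le_I' : M.KI p ≤ M.I' p := by
  unfold KI
  exact Ideal.mul_le_right

lemma red_mem_ker' {G : MvPolynomial ι C'} (hG : G ∈ M.I' p) :
    red P C' G ∈ P.toExtension.ker := by
  rw [← red_pr P p]
  exact M.red_mem_ker ((M.mem_I' p).mp hG)

lemma red_eq_zero_of_mem_KI {G : MvPolynomial ι C'} (hG : G ∈ M.KI p) : red P C' G = 0 := by
  unfold KI at hG
  have h1 : G ∈ RingHom.ker (red P C') := by
    rw [ker_red]
    exact Ideal.mul_le_left hG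
  exact h1

lemma red_eq_zero_of_mem_JR (hp : IsSemismallExt p) {G : MvPolynomial ι C'} (hG : G ∈ JR p) :
    red P C' G = 0 := by
  have h1 : G ∈ RingHom.ker (red P C') := by
    rw [ker_red]
    refine Ideal.map_mono ?_ hG
    intro j hj
    rw [mem_maximalIdeal_iff, ← res_app p]
    have hj' : p.toAlgHom j = 0 := (RingHom.mem_ker).mp hj
    change C.res (p.toAlgHom j) = 0
    rw [hj', map_zero]
  exact h1

/-- (F1) relative. -/
lemma exists_mem_red_eq' (hp : Function.Surjective p) (g : P.toExtension.Ring)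
    (hg : g ∈ P.toExtension.ker) : ∃ G ∈ M.I' p, red P C' G = g := by
  obtain ⟨G₀, hG₀, hred⟩ := M.exists_mem_red_eq g hg
  obtain ⟨G, rfl⟩ := pr_surjective p hp G₀
  exact ⟨G, (M.mem_I' p).mpr hG₀, by rw [← red_pr P p, hred]⟩

lemma map_pr_KI (hp : Function.Surjective p) :
    (M.KI p).map (pr ι p) =
      (IsLocalRing.maximalIdeal C).map (MvPolynomial.C : C →+* MvPolynomial ι C) * M.I := by
  unfold KI
  rw [Ideal.map_mul, I'_eq_comap, Ideal.map_comap_of_surjective _ (pr_surjective p hp),
    Ideal.map_map]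
  congr 1
  have h1 : (pr ι p).comp (MvPolynomial.C : C' →+* MvPolynomial ι C') =
      (MvPolynomial.C : C →+* MvPolynomial ι C).comp (p.toAlgHom : C' →+* C) :=
    RingHom.ext fun c => pr_C p c
  rw [h1, ← Ideal.map_map, map_maximalIdeal p hp]

/-- (F2) relative: an element of `I'` reducing to zero lies in `m' I' + J R'`. -/
theorem mem_of_red_eq_zero (hp : Function.Surjective p) (G : MvPolynomial ι C')
    (hG : G ∈ M.I' p) (hred : red P C' G = 0) : G ∈ M.KI p ⊔ JR p := by
  have h1 : pr ι p G ∈ (IsLocalRing.maximalIdeal C).map (MvPolynomial.C : C →+* MvPolynomial ι C) *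
      M.I :=
    M.mem_mul_of_red_eq_zero _ ((M.mem_I' p).mp hG) (by rw [red_pr P p, hred])
  rw [← M.map_pr_KI p hp, Ideal.mem_map_iff_of_surjective _ (pr_surjective p hp)] at h1
  obtain ⟨κ, hκ, hκG⟩ := h1
  have h2 : G - κ ∈ JR (ι := ι) p := by
    rw [JR_eq_ker_pr, RingHom.mem_ker, map_sub, hκG, sub_self]
  have h3 : G = κ + (G - κ) := by ring
  rw [h3]
  exact Submodule.add_mem_sup hκ h2

end MD

end Groth.Agent.H61.ObsR
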