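import Groth.Agent.H61.Hull.AD
import Groth.Agent.H61.Hull.SurjKer
import Groth.Agent.H12.FlatExact
import Groth.Prelude.Def_CotT

set_option linter.style.haveILetI false
set_option linter.unusedSectionVars false
set_option autoImplicit false

/-!
# Marked deformations of a presented algebra: polynomial presentations of a deformation

`P` is a presentation of the `k`-algebra `B₀`.  A *marked deformation* over `A` is ring-level
deformation data `D` of `B₀` over `A` with chosen lifts `e i ∈ D.E` of the generators of `P`.
Evaluation `A[x_i] → D.E` is then surjective; we record the consequences of flatness for its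
kernel.
-/

namespace Groth.Agent.H61.ObsR

universe u

open ArtFun ArtFun.Art CotT Groth.Agent.H61.Hull

variable {k : Type u} [Field k] {B₀ : Type u} [CommRing B₀] [Algebra k B₀]
  {ι σ : Type u} (P : Algebra.Presentation k B₀ ι σ)

section Red

variable (A : Art k k)

/-- reduction of coefficients to the residue field. -/
noncomputable def red : MvPolynomial ι A →+* P.toExtension.Ring :=
  (MvPolynomial.map (A.res : A →+* k) : MvPolynomial ι A →+* MvPolynomial ι k)

lemma red_C (a : A) : red P A (MvPolynomial.C a) = (MvPolynomial.C (A.res a) : MvPolynomial ι k) :=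
  MvPolynomial.map_C _ a

lemma red_X (i : ι) : red P A (MvPolynomial.X i) = (MvPolynomial.X i : MvPolynomial ι k) :=
  MvPolynomial.map_X _ i

lemma red_surjective : Function.Surjective (red P A) :=
  MvPolynomial.map_surjective _ A.res_surjective

lemma ker_red : RingHom.ker (red P A) =
    (IsLocalRing.maximalIdeal A).map (MvPolynomial.C : A →+* MvPolynomial ι A) := by
  have h1 : RingHom.ker (A.res : A →+* k) = IsLocalRing.maximalIdeal A := by
    ext a
    rw [mem_maximalIdeal_iff]
    rfl
  rw [← h1]
  exact MvPolynomial.ker_map _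

lemma algebraMap_C (c : k) :
    algebraMap P.toExtension.Ring B₀ (MvPolynomial.C c : MvPolynomial ι k) = algebraMap k B₀ c := by
  rw [CotT.algebraMap_toExtension]
  exact MvPolynomial.aeval_C _ c

lemma algebraMap_X (i : ι) :
    algebraMap P.toExtension.Ring B₀ (MvPolynomial.X i : MvPolynomial ι k) = P.val i := by
  rw [CotT.algebraMap_toExtension]
  exact MvPolynomial.aeval_X _ i

end Red

/-- a marked deformation: deformation data with lifts of the generators of `P`. -/
structure MD (A : Art k k) : Type (u + 1) where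
  /-- the deformation -/
  D : AD B₀ A
  /-- the lifted generators -/
  e : ι → D.E
  he : ∀ i, D.π (e i) = P.val i

namespace MD

variable {P} {A : Art k k} (M : MD P A)

/-- every deformation can be marked. -/
noncomputable def ofAD (D : AD B₀ A) : MD P A where
  D := D
  e i := Function.surjInv D.surj (P.val i)
  he i := Function.surjInv_eq D.surj (P.val i)

/-- evaluation at the lifted generators. -/
noncomputable def ev : MvPolynomial ι A →+* M.D.E := MvPolynomial.eval₂Hom M.D.φ M.e

lemma ev_C (a : A) : M.ev (MvPolynomial.C a) = M.D.φ a := MvPolynomial.eval₂_C _ _ a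

lemma ev_X (i : ι) : M.ev (MvPolynomial.X i) = M.e i := MvPolynomial.eval₂_X _ _ i

lemma π_ev (G : MvPolynomial ι A) :
    M.D.π (M.ev G) = algebraMap P.toExtension.Ring B₀ (red P A G) := by
  have h : M.D.π.comp M.ev = (algebraMap P.toExtension.Ring B₀).comp (red P A) := by
    apply MvPolynomial.ringHom_ext
    · intro a
      change M.D.π (M.ev (MvPolynomial.C a)) = algebraMap P.toExtension.Ring B₀ (red P A (MvPolynomial.C a))
      rw [ev_C, red_C, algebraMap_C, M.D.comp]
    · intro i
      change M.D.π (M.ev (MvPolynomial.X i)) = algebraMap P.toExtension.Ring B₀ (red P A (MvPolynomial.X i))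
      rw [ev_X, red_X, algebraMap_X, M.he]
  exact DFunLike.congr_fun h G

lemma isNilpotent_maximalIdeal (A : Art k k) : IsNilpotent (IsLocalRing.maximalIdeal A) := by
  have := IsArtinianRing.isNilpotent_jacobson_bot (R := A)
  rwa [IsLocalRing.jacobson_eq_maximalIdeal ⊥ bot_ne_top] at this

lemma ev_surjective : Function.Surjective M.ev := by
  refine surjective_of_flat_of_nilpotent (RingHom.id A) Function.surjective_id
    (MvPolynomial.C : A →+* MvPolynomial ι A) M.D.φ
    ((algebraMap P.toExtension.Ring B₀).comp (red P A)) M.D.π (IsLocalRing.maximalIdeal A)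
    (isNilpotent_maximalIdeal A) ?_ M.D.ker M.ev (fun a => M.ev_C a) (fun G => M.π_ev G)
  exact (P.toExtension.algebraMap_surjective).comp (red_surjective P A)

/-- the kernel of evaluation. -/
noncomputable def I : Ideal (MvPolynomial ι A) := RingHom.ker M.ev

lemma mem_I {G : MvPolynomial ι A} : G ∈ M.I ↔ M.ev G = 0 := RingHom.mem_ker

lemma red_mem_ker {G : MvPolynomial ι A} (hG : G ∈ M.I) : red P A G ∈ P.toExtension.ker := by
  change algebraMap P.toExtension.Ring B₀ (red P A G) = 0
  rw [← M.π_ev, M.mem_I.mp hG, map_zero]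

/-- elements of `D.E` killed by the augmentation come from `m_A A[x]`. -/
lemma exists_of_π_eq_zero (z : M.D.E) (hz : M.D.π z = 0) :
    ∃ G ∈ (IsLocalRing.maximalIdeal A).map (MvPolynomial.C : A →+* MvPolynomial ι A), M.ev G = z := by
  have h1 : z ∈ RingHom.ker M.D.π := hz
  rw [M.D.ker] at h1
  have h2 : (IsLocalRing.maximalIdeal A).map M.D.φ =
      ((IsLocalRing.maximalIdeal A).map (MvPolynomial.C : A →+* MvPolynomial ι A)).map M.ev := by
    rw [Ideal.map_map]
    congr 1
    exact RingHom.ext fun a => (M.ev_C a).symm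
  rw [h2, Ideal.mem_map_iff_of_surjective _ M.ev_surjective] at h1
  exact h1

/-- (F1) every element of the kernel of `k[x] → B₀` lifts to the kernel of `A[x] → D.E`. -/
lemma exists_mem_red_eq (g : P.toExtension.Ring) (hg : g ∈ P.toExtension.ker) :
    ∃ G ∈ M.I, red P A G = g := by
  obtain ⟨G₁, rfl⟩ := red_surjective P A g
  have h1 : M.D.π (M.ev G₁) = 0 := by
    rw [M.π_ev]
    exact hg
  obtain ⟨G₂, hG₂, hev⟩ := M.exists_of_π_eq_zero _ h1
  refine ⟨G₁ - G₂, ?_, ?_⟩
  · rw [mem_I, map_sub, hev, sub_self]
  · rw [← ker_red P A] at hG₂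
    rw [map_sub, (RingHom.mem_ker).mp hG₂, sub_zero]

/-- (F2) an element of the kernel reducing to zero lies in `m_A I`. -/
theorem mem_mul_of_red_eq_zero (G : MvPolynomial ι A) (hG : G ∈ M.I) (hred : red P A G = 0) :
    G ∈ (IsLocalRing.maximalIdeal A).map (MvPolynomial.C : A →+* MvPolynomial ι A) * M.I := by
  letI : Algebra A M.D.E := M.D.φ.toAlgebra
  haveI : Module.Flat A M.D.E := M.D.flat
  have h1 : G ∈ RingHom.ker (red P A) := hred
  rw [ker_red] at h1
  change G ∈ Submodule.span _ _ at h1
  rw [Submodule.mem_span_set'] at h1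
  obtain ⟨n, f, g, hsum⟩ := h1
  choose c hc hcg using fun i => (g i).2
  have hB0 : ∑ i, c i • M.ev (f i) = 0 := by
    have h2 : M.ev G = 0 := M.mem_I.mp hG
    rw [← hsum, map_sum] at h2
    rw [← h2]
    refine Finset.sum_congr rfl fun i _ => ?_
    rw [smul_eq_mul, map_mul, ← hcg i, M.ev_C, Algebra.smul_def, mul_comm]
    rfl
  obtain ⟨m, a, y, hxy', hfa'⟩ :=
    Module.Flat.isTrivialRelation_of_sum_smul_eq_zero (R := A) (M := M.D.E) hB0
  have hxy : ∀ i, M.ev (f i) = ∑ j, a i j • y j := hxy'
  have hfa : ∀ j, ∑ i, c i * a i j = 0 := hfa'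
  choose Y hY using fun j => M.ev_surjective (y j)
  let h : Fin n → MvPolynomial ι A := fun i => f i - ∑ j, MvPolynomial.C (a i j) * Y j
  have hh : ∀ i, h i ∈ M.I := by
    intro i
    rw [mem_I]
    change M.ev (f i - _) = 0
    rw [map_sub, map_sum, hxy i, sub_eq_zero]
    refine Finset.sum_congr rfl fun j _ => ?_
    rw [map_mul, M.ev_C, hY, Algebra.smul_def]
    rfl
  have hxeq : G = ∑ i, MvPolynomial.C (c i) * h i := by
    have e0 : ∑ j, MvPolynomial.C (∑ i, c i * a i j) * Y j = (0 : MvPolynomial ι A) := by
      refine Finset.sum_eq_zero fun j _ => ?_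
      rw [hfa j, map_zero, zero_mul]
    have e2 : ∑ i, MvPolynomial.C (c i) * h i +
        ∑ j, MvPolynomial.C (∑ i, c i * a i j) * Y j = G := by
      rw [← hsum]
      have e1 : ∀ i, f i • ((g i : Set.image _ _) : MvPolynomial ι A) =
          MvPolynomial.C (c i) * h i + ∑ j, MvPolynomial.C (c i * a i j) * Y j := by
        intro i
        rw [← hcg i]
        change f i * MvPolynomial.C (c i) = MvPolynomial.C (c i) * (f i - _) + _
        rw [mul_sub, Finset.mul_sum, mul_comm]
        rw [sub_add_eq_add_sub, eq_sub_iff_add_eq]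
        congr 1
        refine Finset.sum_congr rfl fun j _ => ?_
        rw [map_mul, mul_assoc]
      rw [Finset.sum_congr rfl fun i _ => e1 i, Finset.sum_add_distrib]
      congr 1
      rw [Finset.sum_comm]
      refine Finset.sum_congr rfl fun j _ => ?_
      rw [map_sum, Finset.sum_mul]
    rw [← e2, e0, add_zero]
  rw [hxeq]
  refine Ideal.sum_mem _ fun i _ => ?_
  exact Ideal.mul_mem_mul (Ideal.mem_map_of_mem _ (hc i)) (hh i)

/-- the kernel of evaluation is a flat `A`-module. -/
lemma flat_I : Module.Flat A ↥(M.I.restrictScalars A) := by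
  letI : Algebra A M.D.E := M.D.φ.toAlgebra
  haveI : Module.Flat A M.D.E := M.D.flat
  let evL : MvPolynomial ι A →ₗ[A] M.D.E :=
    { toFun := M.ev
      map_add' := map_add _
      map_smul' := fun a G => by
        rw [RingHom.id_apply, Algebra.smul_def, Algebra.smul_def, map_mul]
        congr 1
        exact M.ev_C a }
  have hex : Function.Exact (M.I.restrictScalars A).subtype evL := by
    intro G
    constructor
    · intro hG
      exact ⟨⟨G, M.mem_I.mpr hG⟩, rfl⟩
    · rintro ⟨G', rfl⟩
      exact M.mem_I.mp G'.2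
  exact Groth.Agent.H12.flat_of_exact_left (M.I.restrictScalars A).subtype evL
    (Submodule.injective_subtype _) M.ev_surjective hex

end MD

end Groth.Agent.H61.ObsR
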