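import Groth.Agent.H61.ObsR.Funct
import Groth.Prelude.Def_ArtFun3

set_option linter.style.haveILetI false
set_option linter.unusedSectionVars false
set_option autoImplicit false

/-!
# The obstruction theory of the deformation functor of `Spec B₀` with values in `T²(B₀/k, B₀)`
-/

namespace Groth.Agent.H61.ObsR

universe u

open ArtFun ArtFun.Art CotT Groth.Agent.H61.Hull CategoryTheory TensorProduct
  Groth.Agent.H61.DefAlg

variable {k : Type u} [Field k] {B₀ : Type u} [CommRing B₀] [Algebra k B₀]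
  {ι σ : Type u} {P : Algebra.Presentation k B₀ ι σ} {C' C'' C : Art k k}

lemma sum_tmul_basis_eq_zero_iff {V N : Type*} [AddCommGroup V] [Module k V] [AddCommGroup N]
    [Module k N] {r : ℕ} (𝒞 : Module.Basis (Fin r) k N) (f : Fin r → V) :
    ∑ i, f i ⊗ₜ[k] 𝒞 i = 0 ↔ ∀ i, f i = 0 := by
  constructor
  · intro h
    have h1 : ((Finsupp.equivFunOnFinite.symm f).sum fun i m => m ⊗ₜ[k] 𝒞 i) = 0 := by
      rw [Finsupp.sum_fintype (Finsupp.equivFunOnFinite.symm f) (fun i m => m ⊗ₜ[k] 𝒞 i)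
        (fun i => TensorProduct.zero_tmul _ _)]
      exact h
    have h2 := TensorProduct.sum_tmul_basis_right_eq_zero 𝒞 _ h1
    intro i
    have h3 := DFunLike.congr_fun h2 i
    exact h3
  · intro h
    refine Finset.sum_eq_zero fun i _ => ?_
    rw [h i, TensorProduct.zero_tmul]

namespace MD

variable {M : MD P C} {p : C' ⟶ C} {p'' : C'' ⟶ C}

/-- the obstruction element computed with given choices. -/
noncomputable def obsSum (hp : IsSemismallExt p) (𝔏 : M.LiftFn p) (𝔟 : KB p) :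
    T2 P B₀ ⊗[k] ↥(RingHom.ker p.toAlgHom) :=
  ∑ i, ocl 𝔏 𝔟 hp i ⊗ₜ[k] 𝔟.b i

lemma obsSum_eq_zero_iff (hp : IsSemismallExt p) (𝔏 : M.LiftFn p) (𝔟 : KB p) :
    obsSum hp 𝔏 𝔟 = 0 ↔
      ∃ (D' : AD B₀ C') (τ : D'.E →+* M.D.E),
        (∀ a, τ (D'.φ a) = M.D.φ (p.toAlgHom a)) ∧ ∀ e, M.D.π (τ e) = D'.π e := by
  unfold obsSum
  rw [sum_tmul_basis_eq_zero_iff, forall_ocl_eq_zero_iff]

/-- functoriality of the obstruction element. -/
theorem lTensor_obsSum (g : C' ⟶ C'') (hg : g ≫ p'' = p)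
    (γ : ↥(RingHom.ker p.toAlgHom) →ₗ[k] ↥(RingHom.ker p''.toAlgHom))
    (hγ : ∀ j, ((γ j : ↥(RingHom.ker p''.toAlgHom)) : C'') = g.toAlgHom (j : C'))
    (hp : IsSemismallExt p) (hp'' : IsSemismallExt p'') (𝔏 : M.LiftFn p)
    (𝔏'' : M.LiftFn p'') (𝔟 : KB p) (𝔟'' : KB p'') :
    LinearMap.lTensor (T2 P B₀) γ (obsSum hp 𝔏 𝔟) = obsSum hp'' 𝔏'' 𝔟'' := by
  unfold obsSum
  rw [map_sum]
  have h1 : ∀ i, γ (𝔟.b i) = ∑ j, mat g hg 𝔟 𝔟'' i j • 𝔟''.b j := by
    intro i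
    have h2 : γ (𝔟.b i) = ⟨g.toAlgHom (𝔟.t i), g_mem_ker g hg (𝔟.t_mem i)⟩ :=
      Subtype.ext (hγ _)
    rw [h2]
    exact (𝔟''.b.sum_repr _).symm
  have h3 : ∀ i, LinearMap.lTensor (T2 P B₀) γ (ocl 𝔏 𝔟 hp i ⊗ₜ[k] 𝔟.b i) =
      ∑ j, (mat g hg 𝔟 𝔟'' i j • ocl 𝔏 𝔟 hp i) ⊗ₜ[k] 𝔟''.b j := by
    intro i
    rw [LinearMap.lTensor_tmul, h1 i, TensorProduct.tmul_sum]
    refine Finset.sum_congr rfl fun j _ => ?_
    rw [TensorProduct.tmul_smul, TensorProduct.smul_tmul']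
  rw [Finset.sum_congr rfl fun i _ => h3 i, Finset.sum_comm]
  refine Finset.sum_congr rfl fun j _ => ?_
  rw [ocl_push g hg hp hp'' 𝔏 𝔏'' 𝔟 𝔟'' j, TensorProduct.sum_tmul]

/-- the obstruction element does not depend on the choices. -/
theorem obsSum_indep (hp : IsSemismallExt p) (𝔏 𝔏' : M.LiftFn p) (𝔟 𝔟' : KB p) :
    obsSum hp 𝔏 𝔟 = obsSum hp 𝔏' 𝔟' := by
  have h := lTensor_obsSum (M := M) (𝟙 C') (Category.id_comp p) LinearMap.id (fun j => rfl)
    hp hp 𝔏 𝔏' 𝔟 𝔟'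
  rw [LinearMap.lTensor_id, LinearMap.id_apply] at h
  exact h

variable (M p)

/-- the obstruction element. -/
noncomputable def obsElt (hp : IsSemismallExt p) : T2 P B₀ ⊗[k] ↥(RingHom.ker p.toAlgHom) :=
  obsSum hp (M.nonempty_liftFn p hp.1).some (Classical.arbitrary (KB p))

lemma obsElt_eq_zero_iff (hp : IsSemismallExt p) :
    M.obsElt p hp = 0 ↔
      ∃ (D' : AD B₀ C') (τ : D'.E →+* M.D.E),
        (∀ a, τ (D'.φ a) = M.D.φ (p.toAlgHom a)) ∧ ∀ e, M.D.π (τ e) = D'.π e :=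
  obsSum_eq_zero_iff hp _ _

end MD

section Theory

variable (P)

/-- a chosen marked representative of a class. -/
noncomputable def rep (u : (defFunctor (Λ := k) (XB k B₀) (xB k B₀)).obj C) : MD P C :=
  MD.ofAD (AD.exists_cls_eq u).choose

lemma rep_cls (u : (defFunctor (Λ := k) (XB k B₀) (xB k B₀)).obj C) : (rep P u).D.cls = u :=
  (AD.exists_cls_eq u).choose_spec

/-- **The obstruction theory of `Def_{B₀}` with values in `T²(B₀/k, B₀)`.** -/
noncomputable def obsTheory :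
    ObsTheory (defFunctor (Λ := k) (XB k B₀) (xB k B₀)) (T2 P B₀) where
  obs p hp u := (rep P u).obsElt p hp
  obs_eq_zero_iff p hp u := by
    rw [MD.obsElt_eq_zero_iff]
    constructor
    · rintro ⟨D', τ, h1, h2⟩
      refine ⟨D'.cls, ?_⟩
      rw [AD.map_cls_eq_of_hom p D' (rep P u).D τ h1 h2, rep_cls]
    · rintro ⟨u', hu'⟩
      obtain ⟨D', rfl⟩ := AD.exists_cls_eq u'
      have h : (defFunctor (Λ := k) (XB k B₀) (xB k B₀)).map p D'.cls = (rep P u).D.cls := by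
        rw [hu', rep_cls]
      obtain ⟨τ, h1, h2⟩ := AD.exists_hom_of_map_cls_eq p D' (rep P u).D h
      exact ⟨D', τ, h1, h2⟩
  obs_quot p hp K hK hKJ hq u := by
    symm
    exact MD.lTensor_obsSum (M := rep P u) (quotMk _ K hK) (quotMk_quotFactor hK p hKJ)
      ((kerToQuot hK p hKJ).restrictScalars k) (fun j => rfl) hp hq _ _ _ _

end Theory

end Groth.Agent.H61.ObsR
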