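import Groth.Agent.H61.ObsR.Indep
import Groth.Agent.H61.ObsR.FlatSemi

set_option linter.style.haveILetI false
set_option linter.unusedSectionVars false
set_option autoImplicit false

/-!
# The obstruction classes vanish exactly when the deformation lifts
-/

namespace Groth.Agent.H61.ObsR

universe u

open ArtFun ArtFun.Art CotT Groth.Agent.H61.Hull

variable {k : Type u} [Field k] {B₀ : Type u} [CommRing B₀] [Algebra k B₀]
  {ι σ : Type u} {P : Algebra.Presentation k B₀ ι σ} {C' C : Art k k}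

namespace MD

variable {M : MD P C} {p : C' ⟶ C}

/-- a lift of the deformation kills the obstruction classes. -/
theorem ocl_eq_zero_of_lift (hp : IsSemismallExt p) (𝔏 : M.LiftFn p) (𝔟 : KB p)
    (D' : AD B₀ C') (τ : D'.E →+* M.D.E)
    (h1 : ∀ a, τ (D'.φ a) = M.D.φ (p.toAlgHom a)) (h2 : ∀ e, M.D.π (τ e) = D'.π e)
    (i : Fin 𝔟.r) : ocl 𝔏 𝔟 hp i = 0 := by
  have hτ : Function.Surjective τ :=
    surjective_of_flat_of_nilpotent (p.toAlgHom : C' →+* C) hp.1 D'.φ M.D.φ D'.π M.D.π
      (IsLocalRing.maximalIdeal C) (isNilpotent_maximalIdeal C) D'.surj M.D.ker τ h1 h2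
  choose e' he' using fun i => hτ (M.e i)
  let M' : MD P C' := ⟨D', e', fun i => by rw [← h2, he', M.he]⟩
  have hcomp : τ.comp M'.ev = M.evp p := by
    apply MvPolynomial.ringHom_ext
    · intro a
      change τ (M'.ev (MvPolynomial.C a)) = M.ev (pr ι p (MvPolynomial.C a))
      rw [ev_C, pr_C, ev_C]
      exact h1 a
    · intro i
      change τ (M'.ev (MvPolynomial.X i)) = M.ev (pr ι p (MvPolynomial.X i))
      rw [ev_X, pr_X, ev_X]
      exact he' i
  have hle : M'.I ≤ M.I' p := by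
    intro G hG
    change G ∈ RingHom.ker (M.evp p)
    rw [RingHom.mem_ker, ← hcomp, RingHom.comp_apply, M'.mem_I.mp hG, map_zero]
  choose L'' hL'' hred'' using fun s =>
    M'.exists_mem_red_eq (P.relation s) (P.relation_mem_ker s)
  let 𝔏'' : M.LiftFn p := ⟨L'', fun s => hle (hL'' s), hred''⟩
  rw [ocl_indep hp 𝔏 𝔏'' 𝔟 i]
  have hz : obsZ 𝔏'' 𝔟 hp i = 0 := by
    apply Subtype.ext
    apply LinearMap.ext
    intro q
    change obsLin 𝔏'' 𝔟 hp i q = 0
    rw [obsLin_apply]
    have hobs : IsObs 𝔏'' 𝔟 q.1 0 := by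
      obtain ⟨x, hx⟩ := mapRed_surjective P (C' := C') q.1
      refine ⟨x, 0, hx, ?_, fun i => by rw [Pi.zero_apply, map_zero, map_zero]; rfl⟩
      simp only [Pi.zero_apply, mul_zero, Finset.sum_const_zero, sub_zero]
      have h3 : JJ 𝔏''.L x ∈ M'.I := by
        unfold JJ
        rw [Finsupp.linearCombination_apply, Finsupp.sum]
        exact Ideal.sum_mem _ fun s _ => Ideal.mul_mem_left _ _ (hL'' s)
      have h4 : red P C' (JJ 𝔏''.L x) = 0 := by
        rw [red_JJ, hx]
        exact q.2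
      have h5 := M'.mem_mul_of_red_eq_zero _ h3 h4
      unfold KI
      exact Ideal.mul_mono_right hle h5
    rw [obsFun_eq_of_isObs 𝔏'' 𝔟 hp q 0 hobs]
    rfl
  unfold ocl
  rw [hz, map_zero]

end MD

end Groth.Agent.H61.ObsR
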